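import Groth.Agent.S3042
import Groth.Agent.Sga3.H829.MultConv
import Mathlib.AlgebraicGeometry.Morphisms.LocalFlatDescent
import Mathlib.AlgebraicGeometry.Morphisms.Flat

/-!
# First properties of groups of multiplicative type and of finite type; monomorphisms are fibrewise

* `isPullback_map`: the base change square of a morphism of `S`-schemes;
* `mono_of_fibres`: a morphism of `S`-schemes (source locally of finite type) which is a monomorphism on all fibres over
  `S` is a monomorphism;
* `locallyOfFinitePresentation_of_isMultTypeFT`, `locallyOfFiniteType_of_isMultTypeFT`, `flat_of_isMultTypeFT`.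
-/

set_option autoImplicit false
open CategoryTheory MonoidalCategory CartesianMonoidalCategory MonObj GrpObj AlgebraicGeometry
universe u

namespace K6.Basic

open Groth.Agent

/-- The base change square of a morphism of `S`-schemes. -/
theorem isPullback_map {S S' : Scheme.{u}} (a : S' ⟶ S) {X Y : Over S} (f : X ⟶ Y) :
    IsPullback (Limits.pullback.fst X.hom a) ((Over.pullback a).map f).left f.left
      (Limits.pullback.fst Y.hom a) := by
  have h1 : IsPullback (Limits.pullback.fst Y.hom a) (Limits.pullback.snd Y.hom a) Y.hom a :=
    IsPullback.of_hasPullback _ _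
  have h2 : IsPullback (Limits.pullback.fst X.hom a) (Limits.pullback.snd X.hom a) X.hom a :=
    IsPullback.of_hasPullback _ _
  have e1 : ((Over.pullback a).map f).left ≫ Limits.pullback.fst Y.hom a =
      Limits.pullback.fst X.hom a ≫ f.left := Limits.pullback.lift_fst _ _ _
  have e2 : ((Over.pullback a).map f).left ≫ Limits.pullback.snd Y.hom a =
      Limits.pullback.snd X.hom a := Limits.pullback.lift_snd _ _ _
  have e3 : f.left ≫ Y.hom = X.hom := Over.w f
  have h3 : IsPullback (Limits.pullback.fst X.hom a)
      (((Over.pullback a).map f).left ≫ Limits.pullback.snd Y.hom a) (f.left ≫ Y.hom) a := by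
    rw [e2, e3]
    exact h2
  exact IsPullback.of_bot h3 e1.symm h1

/-- A morphism of `S`-schemes locally of finite type which is a monomorphism on the fibres over `S` is a
monomorphism. -/
theorem mono_of_fibres {S : Scheme.{u}} {H G : Over S} (u : H ⟶ G) [LocallyOfFiniteType u.left]
    (hfib : ∀ s : S, Mono ((Over.pullback (S.fromSpecResidueField s)).map u).left) :
    Mono u.left := by
  rw [Groth.Agent.S3042.result]
  intro y
  let s : S := G.hom y
  have hm := hfib s
  let f := S.fromSpecResidueField s
  have hsq := isPullback_map f u
  let w : Spec (G.left.residueField y) ⟶ Limits.pullback G.hom f :=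
    Limits.pullback.lift (G.left.fromSpecResidueField y) (Spec.map (G.hom.residueFieldMap y))
      (Scheme.Hom.SpecMap_residueFieldMap_fromSpecResidueField G.hom y).symm
  have hw : w ≫ Limits.pullback.fst G.hom f = G.left.fromSpecResidueField y := Limits.pullback.lift_fst _ _ _
  have hp : IsPullback (Limits.pullback.fst ((Over.pullback f).map u).left w ≫ Limits.pullback.fst H.hom f)
      (Limits.pullback.snd ((Over.pullback f).map u).left w) u.left (G.left.fromSpecResidueField y) := by
    have := (IsPullback.of_hasPullback ((Over.pullback f).map u).left w).paste_horiz hsq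
    rw [hw] at this
    exact this
  have hm2 : Mono (Limits.pullback.snd ((Over.pullback f).map u).left w) := inferInstance
  let e := (IsPullback.of_hasPullback u.left (G.left.fromSpecResidueField y)).isoIsPullback _ _ hp
  have he : e.hom ≫ Limits.pullback.snd ((Over.pullback f).map u).left w = u.left.fiberToSpecResidueField y :=
    IsPullback.isoIsPullback_hom_snd _ _ _ _
  rw [← he]
  exact mono_comp e.hom _

theorem diag_locallyOfFinitePresentation (M : Type) [AddCommGroup M] (hM : AddGroup.FG M) :
    LocallyOfFinitePresentation (Red.diag (ULift.{u} ℤ) M).hom := by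
  change LocallyOfFinitePresentation (Spec.map (CommRingCat.ofHom
    (algebraMap (ULift.{u} ℤ) (MonoidAlgebra (ULift.{u} ℤ) (Multiplicative M)))))
  rw [HasRingHomProperty.Spec_iff (P := @LocallyOfFinitePresentation)]
  have : IsNoetherianRing (ULift.{u} ℤ) := isNoetherianRing_of_ringEquiv ℤ ULift.ringEquiv.symm
  have h1 : Monoid.FG (Multiplicative M) := by
    have : AddGroup.FG M := hM
    have : Group.FG (Multiplicative M) := inferInstance
    exact Group.fg_iff_monoid_fg.mp this
  have h2 : Algebra.FiniteType (ULift.{u} ℤ) (MonoidAlgebra (ULift.{u} ℤ) (Multiplicative M)) :=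
    MonoidAlgebra.finiteType_of_fg
  have h3 : Algebra.FinitePresentation (ULift.{u} ℤ) (MonoidAlgebra (ULift.{u} ℤ) (Multiplicative M)) :=
    Algebra.FinitePresentation.of_finiteType.mp h2
  rw [CommRingCat.hom_ofHom, RingHom.finitePresentation_algebraMap]
  exact h3

theorem diag_flat (M : Type) [AddCommGroup M] :
    Flat (Red.diag (ULift.{u} ℤ) M).hom := by
  change Flat (Spec.map (CommRingCat.ofHom
    (algebraMap (ULift.{u} ℤ) (MonoidAlgebra (ULift.{u} ℤ) (Multiplicative M)))))
  rw [HasRingHomProperty.Spec_iff (P := @Flat)]
  simp only [CommRingCat.hom_ofHom, RingHom.flat_algebraMap_iff]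
  infer_instance

theorem locallyOfFinitePresentation_of_isMultTypeFT {S : Scheme.{u}} {H : Over S} [GrpObj H]
    (hH : SGA3x.IsMultTypeFT H) : LocallyOfFinitePresentation H.hom := by
  have h1 : IsZariskiLocalAtTarget @LocallyOfFinitePresentation.{u} :=
    HasRingHomProperty.instIsZariskiLocalAtTarget (P := @LocallyOfFinitePresentation.{u})
      (Q := RingHom.FinitePresentation)
  exact Groth.Agent.Sga3.H829.MultConv.prop_of_isMultTypeFT (P := @LocallyOfFinitePresentation)
    (fun M _ hM => diag_locallyOfFinitePresentation M hM) hH

theorem locallyOfFiniteType_of_isMultTypeFT {S : Scheme.{u}} {H : Over S} [GrpObj H]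
    (hH : SGA3x.IsMultTypeFT H) : LocallyOfFiniteType H.hom := by
  have := locallyOfFinitePresentation_of_isMultTypeFT hH
  infer_instance

end K6.Basic
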