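import Groth.Prelude.Def_TwC
import Mathlib.AlgebraicGeometry.Morphisms.OpenImmersion
import Mathlib.AlgebraicGeometry.Morphisms.Separated
import Mathlib.AlgebraicGeometry.Morphisms.Finite
import Mathlib.AlgebraicGeometry.PullbackCarrier

/-!
# Constant schemes `TwC.const S M`: base change and first properties

* `isPullback_const`: the base change of `const S M` is `const S' M`;
* `bcConst`: `Red.bc f (const S M) ≅ const S' M` and its compatibility with the points `TwC.pt`;
* `const` is etale and separated over the base, finite if the index type is finite.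
-/

set_option autoImplicit false
open CategoryTheory MonoidalCategory CartesianMonoidalCategory MonObj GrpObj AlgebraicGeometry
open CategoryTheory.Limits
universe u v w

namespace K6.Const

open TwC

variable {S S' : Scheme.{u}} (M : Type v) [Small.{u} M]

/-- Every point of `M_S` is on one of the copies of `S`. -/
theorem exists_ι (p : (∐ fun _ : M => S : Scheme.{u})) :
    ∃ (m : M) (x : S), Sigma.ι (fun _ : M => S) m x = p := by
  obtain ⟨x, hx⟩ := (sigmaOpenCover fun _ : M => S).covers p
  exact ⟨_, x, hx⟩

/-- Constant schemes are compatible with base change, as a pullback square. -/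
theorem isPullback_const (f : S' ⟶ S) :
    IsPullback (Sigma.desc fun m : M => f ≫ Sigma.ι (fun _ : M => S) m) (Sigma.desc fun _ : M => 𝟙 S')
      (Sigma.desc fun _ : M => 𝟙 S) f := by
  let P := pullback (Sigma.desc fun _ : M => 𝟙 S) f
  let α : ∀ _ : M, S' ⟶ P := fun m =>
    pullback.lift (f ≫ Sigma.ι (fun _ : M => S) m) (𝟙 S') (by simp)
  have hα1 : ∀ m, α m ≫ pullback.fst _ _ = f ≫ Sigma.ι (fun _ : M => S) m := fun m => pullback.lift_fst _ _ _
  have hα2 : ∀ m, α m ≫ pullback.snd _ _ = 𝟙 S' := fun m => pullback.lift_snd _ _ _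
  have hsq : ∀ m, IsPullback f (α m) (Sigma.ι (fun _ : M => S) m)
      (pullback.fst (Sigma.desc fun _ : M => 𝟙 S) f) := by
    intro m
    have h1 : IsPullback f (α m ≫ pullback.snd _ _) (Sigma.ι (fun _ : M => S) m ≫ Sigma.desc fun _ : M => 𝟙 S) f := by
      rw [hα2, Sigma.ι_desc]
      exact IsPullback.of_vert_isIso ⟨by simp⟩
    exact IsPullback.of_bot h1 (hα1 m).symm (IsPullback.of_hasPullback _ _)
  have hop : ∀ m, IsOpenImmersion (α m) := fun m =>
    MorphismProperty.of_isPullback (P := @IsOpenImmersion) (hsq m) inferInstance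
  have hdisj : Pairwise (Function.onFun Disjoint fun m => Set.range (α m)) := by
    intro m n hmn
    rw [Function.onFun, Set.disjoint_left]
    rintro _ ⟨x, rfl⟩ ⟨y, hy⟩
    have h1 : Sigma.ι (fun _ : M => S) m (f x) = Sigma.ι (fun _ : M => S) n (f y) := by
      rw [← Scheme.Hom.comp_apply, ← hα1, ← Scheme.Hom.comp_apply, ← hα1, Scheme.Hom.comp_apply,
        Scheme.Hom.comp_apply, hy]
    rw [sigmaι_eq_iff] at h1
    exact hmn (congrArg Sigma.fst h1)
  have hopen : IsOpenImmersion (Sigma.desc α) := isOpenImmersion_sigmaDesc _ α hdisj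
  have hsurj : Surjective (Sigma.desc α) := by
    constructor
    intro p
    obtain ⟨m, x, hx⟩ := exists_ι M ((pullback.fst (Sigma.desc fun _ : M => 𝟙 S) f : _ ⟶ _) p)
    obtain ⟨z, -, hz⟩ := Scheme.exists_preimage_of_isPullback (hsq m) x p hx
    refine ⟨Sigma.ι (fun _ : M => S') m z, ?_⟩
    rw [← Scheme.Hom.comp_apply, Sigma.ι_desc]
    exact hz
  have hiso : IsIso (Sigma.desc α) := by
    rw [isIso_iff_isOpenImmersion_and_surjective]
    exact ⟨hopen, hsurj⟩
  refine IsPullback.of_iso_pullback ⟨?_⟩ (asIso (Sigma.desc α)) ?_ ?_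
  · refine Sigma.hom_ext _ _ fun m => ?_
    simp
  · refine Sigma.hom_ext _ _ fun m => ?_
    simp [hα1]
  · refine Sigma.hom_ext _ _ fun m => ?_
    simp [hα2]

/-- The base change of `M_S` along `f : S' ⟶ S` is `M_{S'}`. -/
noncomputable def bcConst (f : S' ⟶ S) : Red.bc f (const S M) ≅ const S' M :=
  Over.isoMk (isPullback_const M f).isoPullback.symm (by
    change (isPullback_const M f).isoPullback.inv ≫ Sigma.desc (fun _ : M => 𝟙 S') = pullback.snd _ _
    exact (isPullback_const M f).isoPullback_inv_snd)

theorem bcConst_inv_left_fst (f : S' ⟶ S) :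
    (bcConst M f).inv.left ≫ pullback.fst (const S M).hom f =
      Sigma.desc fun m : M => f ≫ Sigma.ι (fun _ : M => S) m :=
  (isPullback_const M f).isoPullback_hom_fst

/-- Points of `const`: the base change of the point of index `m` is the point of index `m`. -/
theorem pt_bcConst_inv (f : S' ⟶ S) (m : M) :
    (pt S' M m ≫ (bcConst M f).inv).left ≫ pullback.fst (const S M).hom f =
      f ≫ (pt S M m).left := by
  rw [Over.comp_left, Category.assoc, bcConst_inv_left_fst]
  exact Sigma.ι_desc _ _

instance : Etale (const S M).hom := by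
  have : IsZariskiLocalAtSource @Etale.{u} := HasRingHomProperty.instIsZariskiLocalAtSource (P := @Etale.{u}) (Q := RingHom.Etale)
  exact IsZariskiLocalAtSource.sigmaDesc (P := @Etale.{u}) fun _ => inferInstance

end K6.Const
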