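import Groth.Agent.SGA3x.K6.ConstRep
import Groth.Agent.Sga1.SigmaFinite
import Groth.Agent.Sga3B.RepDescent9

/-!
# Constant schemes: reindexing, finiteness, quasi-affine opens
-/

set_option autoImplicit false
set_option backward.isDefEq.respectTransparency false

universe u v w

open CategoryTheory AlgebraicGeometry Limits

namespace K6.ConstAff

open TwC K6.Const

variable {S : Scheme.{u}}

/-- Reindexing a constant scheme. -/
noncomputable def reindex (S : Scheme.{u}) {I : Type v} {J : Type w} [Small.{u} I] [Small.{u} J] (e : I ≃ J) :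
    const S I ≅ const S J :=
  Over.isoMk
    { hom := Sigma.desc fun i => Sigma.ι (fun _ : J => S) (e i)
      inv := Sigma.desc fun j => Sigma.ι (fun _ : I => S) (e.symm j)
      hom_inv_id := by
        refine Sigma.hom_ext _ _ fun i => ?_
        rw [Sigma.ι_desc_assoc, Sigma.ι_desc, Equiv.symm_apply_apply]
        exact (Category.comp_id _).symm
      inv_hom_id := by
        refine Sigma.hom_ext _ _ fun j => ?_
        rw [Sigma.ι_desc_assoc, Sigma.ι_desc, Equiv.apply_symm_apply]
        exact (Category.comp_id _).symm } (by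
      refine Sigma.hom_ext _ _ fun i => ?_
      change Sigma.ι _ i ≫ Sigma.desc _ ≫ Sigma.desc _ = Sigma.ι _ i ≫ Sigma.desc _
      rw [Sigma.ι_desc_assoc, Sigma.ι_desc, Sigma.ι_desc])

/-- Finite constant schemes are finite over the base. -/
theorem isFinite_const (S : Scheme.{u}) (I : Type v) [Small.{u} I] [Finite I] : IsFinite (const S I).hom := by
  let e : I ≃ Shrink.{u} I := equivShrink I
  have : Finite (Shrink.{u} I) := Finite.of_equiv _ e
  have h1 : IsFinite (const S (Shrink.{u} I)).hom :=
    Groth.Agent.Sga1.SigmaFinite.isFinite_sigmaDesc (fun _ : Shrink.{u} I => 𝟙 S)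
  have h2 : (const S I).hom = (reindex S e).hom.left ≫ (const S (Shrink.{u} I)).hom := (Over.w (reindex S e).hom).symm
  have h3 : IsIso (reindex S e).hom.left := ((Over.forget _).mapIso (reindex S e)).isIso_hom
  rw [h2]
  infer_instance

/-- A quasi-compact open subset of a constant scheme over an affine base is contained in an affine open. -/
theorem exists_isAffineOpen [IsAffine S] (I : Type v) [Small.{u} I] (U : (const S I).left.Opens)
    (hU : IsCompact (U : Set (const S I).left)) : ∃ W : (const S I).left.Opens, U ≤ W ∧ IsAffineOpen W := by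
  obtain ⟨t, ht⟩ := hU.elim_finite_subcover (fun j : I => Set.range (Sigma.ι (fun _ : I => S) j))
    (fun j => (Sigma.ι (fun _ : I => S) j).isOpenEmbedding.isOpen_range) (by
      intro p _
      obtain ⟨m, x, hx⟩ := exists_ι I p
      exact Set.mem_iUnion.mpr ⟨m, x, hx⟩)
  let W : t → (∐ fun _ : I => S : Scheme.{u}).Opens := fun j => (Sigma.ι (fun _ : I => S) j.1).opensRange
  refine ⟨⨆ j, W j, ?_, ?_⟩
  · intro p hp
    have h1 := ht hp
    simp only [Set.mem_iUnion] at h1
    obtain ⟨j, hj, hp'⟩ := h1
    exact TopologicalSpace.Opens.mem_iSup.mpr ⟨⟨j, hj⟩, hp'⟩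
  · refine IsAffineOpen.iSup_of_disjoint (fun j => isAffineOpen_opensRange _) ?_
    intro i j hij
    rw [Function.onFun, ← TopologicalSpace.Opens.coe_disjoint, Set.disjoint_left]
    rintro _ ⟨x, rfl⟩ ⟨y, hy⟩
    rw [sigmaι_eq_iff] at hy
    exact hij (Subtype.ext (congrArg Sigma.fst hy).symm)

/-- Quasi-compact opens of a constant scheme over an affine base are quasi-affine. -/
theorem isQuasiAffine_const [IsAffine S] (I : Type v) [Small.{u} I] (U : (const S I).left.Opens)
    (hU : IsCompact (U : Set (const S I).left)) : (U : Scheme.{u}).IsQuasiAffine := by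
  obtain ⟨W, hW, hW'⟩ := exists_isAffineOpen I U hU
  exact Groth.Agent.Sga3B.RepDescent.isQuasiAffine_of_le hW hW' hU

end K6.ConstAff
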