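import Groth.Agent.SGA3x.K6.HomDS
import Groth.Agent.SGA3x.K6.ConstAff
import Groth.Agent.SGA3x.K5.MTProj
import Groth.Agent.SGA3x.K10.MTLoc
import Groth.Agent.Sga3B.HomFun898

/-!
# `Hom_{S-gr}(G, H)` for groups which are diagonalisable

* `finite_of_isFinite`: `D(M)` is finite over a nonempty base only for `M` finite;
* `exists_representsHom_of_iso`: transport of representing objects along isomorphisms of groups;
* `exists_split_two`: two groups of multiplicative type and of finite type split simultaneously étale-locally.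
-/

set_option autoImplicit false

universe u

open CategoryTheory MonoidalCategory CartesianMonoidalCategory MonObj GrpObj AlgebraicGeometry Limits

namespace K6.HomLoc

open Groth.Agent.Sga3B TwC

/-- `D(M)` is finite over a nonempty affine base only for `M` finite. -/
theorem finite_of_isFinite {C : Type u} [CommRing C] [Nontrivial C] {M : Type} [AddCommGroup M]
    {X : Over (Spec (CommRingCat.of C))} [GrpObj X]
    (h : Nonempty (Grp.mk X ≅ Grp.mk (Red.DS (Spec (CommRingCat.of C)) M))) (hX : IsFinite X.hom) : Finite M := by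
  obtain ⟨e, he⟩ := Groth.Agent.SGA3x.K5.MTProj.exists_iso_spec h
  have h1 : IsFinite (Spec.map (CommRingCat.ofHom (algebraMap C (MonoidAlgebra C (Multiplicative M))))) := by
    have h2 : Spec.map (CommRingCat.ofHom (algebraMap C (MonoidAlgebra C (Multiplicative M)))) = e.inv ≫ X.hom := by
      rw [← he, Iso.inv_hom_id_assoc]
    rw [h2]
    infer_instance
  rw [IsFinite.SpecMap_iff] at h1
  have h2 : Module.Finite C (MonoidAlgebra C (Multiplicative M)) := RingHom.finite_algebraMap.mp h1
  have h3 : Finite (Multiplicative M) := Module.Finite.finite_basis (MonoidAlgebra.basis (Multiplicative M) C)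
  exact h3

variable {S : Scheme.{u}}

/-- Transport of a representing object of `Hom_{S-gr}` along isomorphisms of groups. -/
theorem exists_representsHom_of_iso {G G' H H' : Over S} [GrpObj G] [GrpObj G'] [GrpObj H] [GrpObj H']
    (e : Grp.mk G ≅ Grp.mk G') (e' : Grp.mk H ≅ Grp.mk H') {A : Over S} {υ : G' ⊗ A ⟶ H'}
    (h : AutFam.RepresentsHom G' H' A υ) : ∃ υ' : G ⊗ A ⟶ H, AutFam.RepresentsHom G H A υ' := by
  let a : G ≅ G' := (Grp.forget _).mapIso e
  let b : H ≅ H' := (Grp.forget _).mapIso e'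
  have ha : IsMonHom a.hom := e.hom.hom.isMonHom_hom
  have hb : IsMonHom b.hom := e'.hom.hom.isMonHom_hom
  exact ⟨_, HomFun898.representsHom_of_iso a b h⟩

/-- Two groups of multiplicative type and of finite type split simultaneously étale-locally. -/
theorem exists_split_two {G H : Over S} [GrpObj G] [GrpObj H] (hG : SGA3x.IsMultTypeFT G)
    (hH : SGA3x.IsMultTypeFT H) (s : S) :
    ∃ (B : Type u) (_ : CommRing B) (_ : Nontrivial B) (v : Spec (CommRingCat.of B) ⟶ S)
      (M N : Type) (_ : AddCommGroup M) (_ : AddCommGroup N), Etale v ∧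
      s ∈ Set.range v ∧ AddGroup.FG M ∧ AddGroup.FG N ∧
      Nonempty (Grp.mk (Red.bc v G) ≅ Grp.mk (Red.DS (Spec (CommRingCat.of B)) M)) ∧
      Nonempty (Grp.mk (Red.bc v H) ≅ Grp.mk (Red.DS (Spec (CommRingCat.of B)) N)) := by
  obtain ⟨B, _, v, M, _, hv, hs, hM, ⟨e⟩⟩ := K10.MTLoc.exists_etale_split hG s
  obtain ⟨x, hx⟩ := hs
  obtain ⟨C, _, w, N, _, hw, hs, hN, ⟨f⟩⟩ := K10.MTLoc.exists_etale_split (K10.MTLoc.bc v hH) x
  obtain ⟨y, hy⟩ := hs
  have hC : Nontrivial C := (PrimeSpectrum.nonempty_iff_nontrivial (R := C)).mp ⟨y⟩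
  refine ⟨C, inferInstance, hC, w ≫ v, M, N, inferInstance, inferInstance, inferInstance, ⟨y, ?_⟩, hM, hN, ?_, ?_⟩
  · rw [Scheme.Hom.comp_apply, hy, hx]
  · exact ⟨BcIso.bcCompIso w v G ≪≫ BcIso.bcMapIso w e ≪≫ TorusAlgClosed.dsBcIso w M⟩
  · exact ⟨BcIso.bcCompIso w v H ≪≫ f⟩

end K6.HomLoc
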