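import Groth.Agent.SGA3x.K6.Const
import Groth.Agent.Sga1.SigmaFinite

/-!
# Closed subschemes of constant schemes: finiteness

* `exists_bc`: base change of a subscheme of a constant scheme;
* `isFinite_of_range_subset`: a closed subscheme of a constant scheme meeting only finitely many copies is finite;
* `isFinite_of_quasiCompact`: a closed subscheme of a constant scheme, quasi-compact over the base, is finite.
-/

set_option autoImplicit false
set_option backward.isDefEq.respectTransparency false
open CategoryTheory AlgebraicGeometry CategoryTheory.Limits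
universe u

namespace K6.ConstFin

open K6.Const

variable {M : Type u}

/-- Base change of a scheme over `M_S`. -/
theorem exists_bc {S S' Z Z' : Scheme.{u}} {f : S' ⟶ S} {a : Z' ⟶ Z} {b : Z' ⟶ S'} {z : Z ⟶ ∐ fun _ : M => S}
    (h : IsPullback a b (z ≫ Sigma.desc fun _ : M => 𝟙 S) f) :
    ∃ z' : Z' ⟶ ∐ fun _ : M => S', z' ≫ Sigma.desc (fun _ : M => 𝟙 S') = b ∧
      IsPullback a z' z (Sigma.desc fun m : M => f ≫ Sigma.ι (fun _ : M => S) m) := by
  have h0 := isPullback_const (S := S) (S' := S') M f
  refine ⟨h0.lift (a ≫ z) b (by rw [Category.assoc]; exact h.w), h0.lift_snd _ _ _, ?_⟩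
  refine IsPullback.of_bot ?_ (h0.lift_fst _ _ _).symm h0
  rw [h0.lift_snd]
  exact h

/-- A closed subscheme of a constant scheme meeting only finitely many copies of the base is finite over the base. -/
theorem isFinite_of_range_subset {S Z : Scheme.{u}} (z : Z ⟶ ∐ fun _ : M => S) [IsClosedImmersion z]
    (J : Set M) (hJ : J.Finite) (h : Set.range z ⊆ ⋃ j ∈ J, Set.range (Sigma.ι (fun _ : M => S) j)) :
    IsFinite (z ≫ Sigma.desc fun _ : M => 𝟙 S) := by
  have : Finite J := hJ
  let incl : (∐ fun _ : J => S) ⟶ ∐ fun _ : M => S := Sigma.desc fun j : J => Sigma.ι (fun _ : M => S) j.1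
  have hincl : IsOpenImmersion incl := by
    refine isOpenImmersion_sigmaDesc _ _ fun i j hij => ?_
    rw [Function.onFun, Set.disjoint_left]
    rintro _ ⟨x, rfl⟩ ⟨y, hy⟩
    rw [sigmaι_eq_iff] at hy
    exact hij (Subtype.ext (congrArg Sigma.fst hy).symm)
  have hr : Set.range z ⊆ Set.range incl := by
    refine h.trans ?_
    simp only [Set.iUnion_subset_iff]
    rintro j hj _ ⟨x, rfl⟩
    refine ⟨Sigma.ι (fun _ : J => S) ⟨j, hj⟩ x, ?_⟩
    rw [← Scheme.Hom.comp_apply, Sigma.ι_desc]
  let z' := IsOpenImmersion.lift incl z hr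
  have hz' : z' ≫ incl = z := IsOpenImmersion.lift_fac _ _ _
  have h1 : IsClosedImmersion z' := by
    have : IsClosedImmersion (z' ≫ incl) := by rw [hz']; infer_instance
    exact IsClosedImmersion.of_comp z' incl
  have h2 : z ≫ Sigma.desc (fun _ : M => 𝟙 S) = z' ≫ Sigma.desc (fun _ : J => 𝟙 S) := by
    rw [← hz', Category.assoc]
    congr 1
    refine Sigma.hom_ext _ _ fun j => ?_
    simp [incl]
  have h3 : IsFinite (Sigma.desc (fun _ : J => 𝟙 S)) := Groth.Agent.Sga1.SigmaFinite.isFinite_sigmaDesc _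
  rw [h2]
  infer_instance

/-- A quasi-compact subset of a constant scheme meets only finitely many copies. -/
theorem exists_finite_of_isCompact {S : Scheme.{u}} (K : Set (∐ fun _ : M => S : Scheme.{u})) (hK : IsCompact K) :
    ∃ J : Set M, J.Finite ∧ K ⊆ ⋃ j ∈ J, Set.range (Sigma.ι (fun _ : M => S) j) := by
  obtain ⟨t, ht⟩ := hK.elim_finite_subcover (fun j : M => Set.range (Sigma.ι (fun _ : M => S) j))
    (fun j => (Sigma.ι (fun _ : M => S) j).isOpenEmbedding.isOpen_range) (by
      intro p _
      obtain ⟨m, x, hx⟩ := exists_ι M p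
      exact Set.mem_iUnion.mpr ⟨m, x, hx⟩)
  exact ⟨t, t.finite_toSet, by simpa using ht⟩

/-- A closed subscheme of a constant scheme, quasi-compact over the base, is finite over the base. -/
theorem isFinite_of_quasiCompact {S Z : Scheme.{u}} (z : Z ⟶ ∐ fun _ : M => S) [IsClosedImmersion z]
    [QuasiCompact (z ≫ Sigma.desc fun _ : M => 𝟙 S)] : IsFinite (z ≫ Sigma.desc fun _ : M => 𝟙 S) := by
  rw [IsZariskiLocalAtTarget.iff_of_openCover (P := @IsFinite) S.affineCover]
  intro i
  let f : S.affineCover.X i ⟶ S := S.affineCover.f i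
  obtain ⟨z', hz', hsq⟩ := exists_bc (IsPullback.of_hasPullback (z ≫ Sigma.desc fun _ : M => 𝟙 S) f)
  have h1 : IsClosedImmersion z' := MorphismProperty.of_isPullback (P := @IsClosedImmersion) hsq inferInstance
  have h2 : QuasiCompact (pullback.snd (z ≫ Sigma.desc fun _ : M => 𝟙 S) f) := inferInstance
  have h3 : CompactSpace ↥(pullback (z ≫ Sigma.desc fun _ : M => 𝟙 S) f) := by
    rwa [← quasiCompact_iff_compactSpace (f := pullback.snd (z ≫ Sigma.desc fun _ : M => 𝟙 S) f)]
  obtain ⟨J, hJ, hJ'⟩ := exists_finite_of_isCompact (Set.range z') (isCompact_range z'.continuous)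
  have h4 := isFinite_of_range_subset z' J hJ hJ'
  rw [hz'] at h4
  exact h4

end K6.ConstFin
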