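import Mathlib.AlgebraicGeometry.Fiber
import Mathlib.AlgebraicGeometry.PullbackCarrier
import Mathlib.AlgebraicGeometry.ResidueField
import Mathlib.AlgebraicGeometry.Morphisms.QuasiSeparated

/-!
# Compactness of fibres is stable under base change
-/

set_option autoImplicit false
open CategoryTheory AlgebraicGeometry CategoryTheory.Limits
universe u

namespace K6.FibreCompact

/-- If the fibre of `p : Z ⟶ S` over `g t'` is quasi-compact, so is the fibre over `t'` of the base change of `p`
along `g : S' ⟶ S`. -/
theorem isCompact_fibre_of_isPullback {Z Z' S S' : Scheme.{u}} {g' : Z' ⟶ Z} {p' : Z' ⟶ S'} {p : Z ⟶ S}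
    {g : S' ⟶ S} (h : IsPullback g' p' p g) (t' : S') (hc : IsCompact (p.base ⁻¹' {g t'})) :
    IsCompact (p'.base ⁻¹' {t'}) := by
  let κ := S.fromSpecResidueField (g t')
  let κ' := S'.fromSpecResidueField t'
  let r : Spec (S'.residueField t') ⟶ Spec (S.residueField (g t')) := Spec.map (g.residueFieldMap t')
  have hr : r ≫ κ = κ' ≫ g := Scheme.Hom.SpecMap_residueFieldMap_fromSpecResidueField g t'
  have h1 : CompactSpace ↥(p.fiber (g t')) := by
    have := isCompact_iff_compactSpace.mp hc
    exact (p.fiberHomeo (g t')).symm.compactSpace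
  have h2 : QuasiCompact (pullback.snd p κ) := by
    rw [quasiCompact_iff_compactSpace]
    exact h1
  have h3 : IsPullback (pullback.fst (pullback.snd p κ) r ≫ pullback.fst p κ) (pullback.snd (pullback.snd p κ) r)
      p (r ≫ κ) :=
    (IsPullback.of_hasPullback (pullback.snd p κ) r).paste_horiz (IsPullback.of_hasPullback p κ)
  have h4 : IsPullback (pullback.fst p' κ' ≫ g') (pullback.snd p' κ') p (κ' ≫ g) :=
    (IsPullback.of_hasPullback p' κ').paste_horiz h
  rw [hr] at h3
  have h5 : QuasiCompact (pullback.snd (pullback.snd p κ) r) := inferInstance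
  have h6 : QuasiCompact (pullback.snd p' κ') := by
    have e := h4.isoIsPullback_hom_snd _ _ h3
    rw [← e]
    infer_instance
  have h7 : CompactSpace ↥(pullback p' κ') := by
    rwa [← quasiCompact_iff_compactSpace (f := pullback.snd p' κ')]
  have h8 : Set.range (pullback.fst p' κ') = p'.base ⁻¹' {t'} := by
    rw [Scheme.Pullback.range_fst, Scheme.range_fromSpecResidueField]
  rw [← h8]
  exact isCompact_range (pullback.fst p' κ').continuous

end K6.FibreCompact
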