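import Groth.Agent.SGA3x.K6.TwConstFin
import Groth.Agent.SGA3x.K6.FibreCompact
import Groth.Agent.Sga3B.RepDescent9
import Groth.Agent.Sga3C.LocConn
import Mathlib.AlgebraicGeometry.Morphisms.LocalFlatDescent

/-!
# Open and closed subschemes of quasi-isotrivial twisted constant schemes

* `isFinite_of_isClopen`: over a connected base, an open and closed subscheme of a constant scheme having one quasi-compact
  fibre is finite over the base.
* `isFinite_of_isTwConst_etale`: the same for quasi-isotrivial twisted constant schemes over a locally noetherian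
  connected base.
-/

set_option autoImplicit false
set_option backward.isDefEq.respectTransparency false
open CategoryTheory AlgebraicGeometry CategoryTheory.Limits
universe u

namespace K6.TwConstClopen

open K6.Const K6.ConstFin TwC

/-- Over a connected base an open and closed subscheme of a constant scheme is a union of copies of the base. -/
theorem range_ι_subset {M : Type u} {S Z : Scheme.{u}} [PreconnectedSpace S] (z : Z ⟶ ∐ fun _ : M => S)
    [IsClosedImmersion z] [IsOpenImmersion z] (m : M)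
    (h : (Set.range (Sigma.ι (fun _ : M => S) m) ∩ Set.range z).Nonempty) :
    Set.range (Sigma.ι (fun _ : M => S) m) ⊆ Set.range z := by
  have hcl : IsClopen (Set.range z) := ⟨z.isClosedEmbedding.isClosed_range, z.isOpenEmbedding.isOpen_range⟩
  have h1 : IsClopen ((Sigma.ι (fun _ : M => S) m) ⁻¹' Set.range z) :=
    hcl.preimage (Sigma.ι (fun _ : M => S) m).continuous
  have h2 : (Sigma.ι (fun _ : M => S) m) ⁻¹' Set.range z = Set.univ := by
    rcases isClopen_iff.mp h1 with h2 | h2
    · exfalso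
      obtain ⟨_, ⟨x, rfl⟩, hx⟩ := h
      have : x ∈ (Sigma.ι (fun _ : M => S) m) ⁻¹' Set.range z := hx
      rw [h2] at this
      exact this
    · exact h2
  rintro _ ⟨x, rfl⟩
  have : x ∈ (Sigma.ι (fun _ : M => S) m) ⁻¹' Set.range z := by rw [h2]; trivial
  exact this

/-- Over a connected base, an open and closed subscheme of a constant scheme having one quasi-compact
fibre is finite over the base. -/
theorem isFinite_of_isClopen {M : Type u} {S Z : Scheme.{u}} [PreconnectedSpace S] (z : Z ⟶ ∐ fun _ : M => S)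
    [IsClosedImmersion z] [IsOpenImmersion z] (t : S)
    (ht : IsCompact ((z ≫ Sigma.desc fun _ : M => 𝟙 S).base ⁻¹' {t})) :
    IsFinite (z ≫ Sigma.desc fun _ : M => 𝟙 S) := by
  let J : Set M := {m | (Set.range (Sigma.ι (fun _ : M => S) m) ∩ Set.range z).Nonempty}
  obtain ⟨J', hJ', hK⟩ := exists_finite_of_isCompact (S := S) (M := M)
    (z '' ((z ≫ Sigma.desc fun _ : M => 𝟙 S).base ⁻¹' {t})) (ht.image z.continuous)
  have hJ : J ⊆ J' := by
    intro m hm
    obtain ⟨w, hw⟩ := range_ι_subset z m hm ⟨t, rfl⟩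
    have h1 : z w ∈ z '' ((z ≫ Sigma.desc fun _ : M => 𝟙 S).base ⁻¹' {t}) := by
      refine ⟨w, ?_, rfl⟩
      change (z ≫ Sigma.desc fun _ : M => 𝟙 S) w = t
      rw [Scheme.Hom.comp_apply, hw, ← Scheme.Hom.comp_apply, Sigma.ι_desc]
      rfl
    have h2 := hK h1
    simp only [Set.mem_iUnion] at h2
    obtain ⟨j, hj, x, hx⟩ := h2
    rw [hw, sigmaι_eq_iff] at hx
    have : j = m := congrArg Sigma.fst hx
    rwa [← this]
  refine isFinite_of_range_subset z J (hJ'.subset hJ) ?_
  rintro _ ⟨w, rfl⟩
  obtain ⟨m, x, hx⟩ := exists_ι M (z w)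
  simp only [Set.mem_iUnion]
  exact ⟨m, ⟨z w, ⟨x, hx⟩, ⟨w, rfl⟩⟩, x, hx⟩

/-- The fibres of a quasi-compact morphism are quasi-compact. -/
theorem isCompact_fibre {X Y : Scheme.{u}} (f : X ⟶ Y) [QuasiCompact f] (y : Y) :
    IsCompact (f.base ⁻¹' {y}) := by
  have h1 : QuasiCompact (pullback.snd f (Y.fromSpecResidueField y)) := inferInstance
  rw [quasiCompact_iff_compactSpace] at h1
  have h2 : CompactSpace ↥(f.fiber y) := h1
  have h3 := (f.fiberHomeo y).compactSpace
  exact isCompact_iff_compactSpace.mpr h3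

/-- For an open and closed subscheme of a quasi-isotrivial twisted constant scheme over a locally noetherian base, the set
of points of the base with quasi-compact fibre is open and closed, and if it is everything then the subscheme is
finite. -/
theorem isClopen_compactFibres {S : Scheme.{u}} [IsLocallyNoetherian S]
    (P : Over S) (hP : IsTwConst Topology.etale P)
    {Z : Scheme.{u}} (z : Z ⟶ P.left) [IsOpenImmersion z] [IsClosedImmersion z] :
    IsClopen {s : S | IsCompact ((z ≫ P.hom).base ⁻¹' {s})} ∧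
    ((∀ s : S, IsCompact ((z ≫ P.hom).base ⁻¹' {s})) → IsFinite (z ≫ P.hom)) := by
  let F : Set S := {s | ∃ (V : Scheme.{u}) (v : V ⟶ S), Etale v ∧ s ∈ Set.range v ∧
    IsFinite (pullback.snd (z ≫ P.hom) v)}
  have hFK : ∀ s ∈ F, IsCompact ((z ≫ P.hom).base ⁻¹' {s}) := by
    rintro _ ⟨V, v, hv, ⟨x, rfl⟩, hfin⟩
    have h1 := isCompact_fibre (pullback.snd (z ≫ P.hom) v) x
    have h2 : (z ≫ P.hom).base ⁻¹' {v x} =
        (pullback.fst (z ≫ P.hom) v) '' ((pullback.snd (z ≫ P.hom) v).base ⁻¹' {x}) := by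
      ext p
      constructor
      · intro hp
        obtain ⟨q, hq1, hq2⟩ := Scheme.Pullback.exists_preimage_pullback (f := z ≫ P.hom) (g := v) p x hp
        exact ⟨q, hq2, hq1⟩
      · rintro ⟨q, hq, rfl⟩
        change (z ≫ P.hom) (pullback.fst (z ≫ P.hom) v q) = v x
        rw [← Scheme.Hom.comp_apply, pullback.condition, Scheme.Hom.comp_apply]
        exact congrArg v hq
    rw [h2]
    exact h1.image (pullback.fst (z ≫ P.hom) v).continuous
  -- a connected chart at every point
  have key : ∀ s : S, ∃ (V : Scheme.{u}) (v : V ⟶ S), Etale v ∧ s ∈ Set.range v ∧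
      ∀ t ∈ Set.range v, IsCompact ((z ≫ P.hom).base ⁻¹' {t}) → IsFinite (pullback.snd (z ≫ P.hom) v) := by
    intro s
    obtain ⟨S', f, hf, ⟨s', rfl⟩, M, ⟨e⟩⟩ := hP s
    have hn : IsLocallyNoetherian S' := LocallyOfFiniteType.isLocallyNoetherian f
    have hlc : LocallyConnectedSpace S' := Groth.Agent.Sga3C.LocConn.locallyConnectedSpace_of_isLocallyNoetherian S'
    let C : S'.Opens := ⟨connectedComponent s', isOpen_connectedComponent⟩
    have hC : PreconnectedSpace (C : Scheme.{u}) :=
      isPreconnected_iff_preconnectedSpace.mp isPreconnected_connectedComponent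
    refine ⟨C, C.ι ≫ f, inferInstance, ⟨⟨s', mem_connectedComponent⟩, rfl⟩, ?_⟩
    rintro _ ⟨t', rfl⟩ ht
    let e' : Red.bc (C.ι ≫ f) P ≅ const (C : Scheme.{u}) M :=
      (Over.pullbackComp C.ι f).app P ≪≫ (Over.pullback C.ι).mapIso e ≪≫ bcConst M C.ι
    obtain ⟨z', q, h1, h2, h3⟩ := TwConstFin.exists_bc_of_iso (C.ι ≫ f) e' z
    have h4 : IsClosedImmersion z' := MorphismProperty.of_isPullback (P := @IsClosedImmersion) h2 inferInstance
    have h5 : IsOpenImmersion z' := MorphismProperty.of_isPullback (P := @IsOpenImmersion) h2 inferInstance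
    have h6 : IsCompact ((z' ≫ Sigma.desc fun _ : M => 𝟙 (C : Scheme.{u})).base ⁻¹' {t'}) := by
      rw [h1]
      exact FibreCompact.isCompact_fibre_of_isPullback (IsPullback.of_hasPullback (z ≫ P.hom) (C.ι ≫ f)) t' ht
    have h7 := isFinite_of_isClopen z' t' h6
    rw [h1] at h7
    exact h7
  have hKF : ∀ s : S, IsCompact ((z ≫ P.hom).base ⁻¹' {s}) → s ∈ F := by
    intro s hs
    obtain ⟨V, v, hv, hsv, h⟩ := key s
    exact ⟨V, v, hv, hsv, h s hsv hs⟩
  have hopen : IsOpen F := by
    rw [isOpen_iff_forall_mem_open]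
    rintro s ⟨V, v, hv, hs, hfin⟩
    exact ⟨Set.range v, fun t ht => ⟨V, v, hv, ht, hfin⟩, v.isOpenMap.isOpen_range, hs⟩
  have hclosed : IsClosed F := by
    rw [← isOpen_compl_iff, isOpen_iff_forall_mem_open]
    intro s hs
    obtain ⟨V, v, hv, hsv, h⟩ := key s
    refine ⟨Set.range v, ?_, v.isOpenMap.isOpen_range, hsv⟩
    intro t ht htF
    exact hs ⟨V, v, hv, hsv, h t ht (hFK t htF)⟩
  have hF : {s : S | IsCompact ((z ≫ P.hom).base ⁻¹' {s})} = F :=
    Set.ext fun s => ⟨hKF s, hFK s⟩
  refine ⟨hF ▸ ⟨hclosed, hopen⟩, fun hall => ?_⟩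
  have hdesc := Groth.Agent.S0084.result.{u}
  exact Groth.Agent.Sga3B.RepDescent.of_etale_cover (P := @IsFinite.{u}) (z ≫ P.hom) fun s => hKF s (hall s)

/-- An open and closed subscheme of a quasi-isotrivial twisted constant scheme over a connected locally noetherian base
is finite as soon as one fibre is quasi-compact. -/
theorem isFinite_of_isTwConst_etale {S : Scheme.{u}} [IsLocallyNoetherian S] [PreconnectedSpace S]
    (P : Over S) (hP : IsTwConst Topology.etale P)
    {Z : Scheme.{u}} (z : Z ⟶ P.left) [IsOpenImmersion z] [IsClosedImmersion z]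
    (s₀ : S) (hs₀ : IsCompact ((z ≫ P.hom).base ⁻¹' {s₀})) : IsFinite (z ≫ P.hom) := by
  obtain ⟨h1, h2⟩ := isClopen_compactFibres P hP z
  have huniv : {s : S | IsCompact ((z ≫ P.hom).base ⁻¹' {s})} = Set.univ := by
    rcases isClopen_iff.mp h1 with h | h
    · have : s₀ ∈ {s : S | IsCompact ((z ≫ P.hom).base ⁻¹' {s})} := hs₀
      rw [h] at this
      exact absurd this (Set.notMem_empty _)
    · exact h
  exact h2 fun s => by
    have : s ∈ {s : S | IsCompact ((z ≫ P.hom).base ⁻¹' {s})} := by rw [huniv]; trivial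
    exact this

/-- A connected open and closed subscheme of a quasi-isotrivial twisted constant scheme over a locally noetherian base
is finite as soon as one nonempty fibre is quasi-compact. -/
theorem isFinite_of_connected {S : Scheme.{u}} [IsLocallyNoetherian S]
    (P : Over S) (hP : IsTwConst Topology.etale P)
    {Z : Scheme.{u}} [PreconnectedSpace Z] (z : Z ⟶ P.left) [IsOpenImmersion z] [IsClosedImmersion z]
    (x : Z) (hx : IsCompact ((z ≫ P.hom).base ⁻¹' {(z ≫ P.hom) x})) : IsFinite (z ≫ P.hom) := by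
  obtain ⟨h1, h2⟩ := isClopen_compactFibres P hP z
  refine h2 fun s => ?_
  by_cases hs : ((z ≫ P.hom).base ⁻¹' {s}).Nonempty
  · obtain ⟨y, rfl⟩ := hs
    have h3 : _root_.IsPreconnected (Set.range (z ≫ P.hom)) := isPreconnected_range (z ≫ P.hom).continuous
    have h4 := h3.subset_isClopen h1 ⟨(z ≫ P.hom) x, ⟨x, rfl⟩, hx⟩
    exact h4 ⟨y, rfl⟩
  · rw [Set.not_nonempty_iff_eq_empty] at hs
    rw [hs]
    exact isCompact_empty

/-- A quasi-isotrivial twisted constant scheme is etale over the base. -/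
theorem etale_of_isTwConst {S : Scheme.{u}} (P : Over S) (hP : IsTwConst Topology.etale P) : Etale P.hom := by
  have : IsZariskiLocalAtTarget @Etale.{u} :=
    HasRingHomProperty.instIsZariskiLocalAtTarget (P := @Etale.{u}) (Q := RingHom.Etale)
  refine Groth.Agent.Sga3B.RepDescent.of_etale_cover (P := @Etale.{u}) P.hom fun s => ?_
  obtain ⟨S', f, hf, hs, M, ⟨e⟩⟩ := hP s
  refine ⟨S', f, hf, hs, ?_⟩
  have h1 : pullback.snd P.hom f = e.hom.left ≫ (const S' M).hom := (Over.w e.hom).symm
  rw [h1]
  infer_instance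

end K6.TwConstClopen
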