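import Groth.Agent.SGA3x.K6.HomGrp
import Groth.Agent.SGA3x.K6.ConstAff

/-!
# The dual of a group of multiplicative type: `Hom_{S-gr}(H, D(N))` is a twisted constant group

* `exists_const_iso`: a bilinear representing family of `Hom_{S-gr}(D(M), D(N))`, `N` finitely generated, identifies
  the representing group with the constant group `Hom(N, M)`;
* `isConstGrp_reindex`: transport of `TwC.IsConstGrp`;
* `exists_dual`: for `H` étale-locally `D(M)` (`M` arbitrary), and `N` finitely generated, `Hom_{S-gr}(H, D(N))` is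
  represented by an étale-locally constant group.
-/

set_option autoImplicit false

universe u v w

open CategoryTheory MonoidalCategory CartesianMonoidalCategory MonObj GrpObj AlgebraicGeometry Limits Opposite

namespace K6.DualMT

open Groth.Agent.Sga3B Groth.Agent.Sga3B.DSPts Groth.Agent.Sga3B.InfConjFam TwC K6.ConstRep K6.HomDS K6.HomGrp

section const

variable {S : Scheme.{u}} {M N : Type} [AddCommGroup M] [AddCommGroup N]

theorem cfam_mul (φ ψ : N →+ M) (T : Over S) : cfam S φ T * cfam S ψ T = cfam S (φ + ψ) T := by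
  rw [cfam, cfam, cfam]
  apply (dsEquiv _ N).symm.injective
  change dsChar _ = dsChar _
  rw [dsChar_mul, dsChar_DSmap, dsChar_DSmap, dsChar_DSmap]
  ext n
  change dsChar _ _ * dsChar _ _ = dsChar _ _
  rw [← map_mul]
  rfl

/-- A bilinear representing family of `Hom_{S-gr}(D(M), D(N))` identifies the representing group with the constant
group `Hom(N, M)`. -/
theorem exists_const_iso [Module.Finite ℤ N] {A : Over S} [GrpObj A] {υ : Red.DS S M ⊗ A ⟶ Red.DS S N}
    (h : AutFam.RepresentsHom (Red.DS S M) (Red.DS S N) A υ) (hb : IsBil υ) :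
    ∃ e : A ≅ const S (Multiplicative (N →+ M)), IsConstGrp (Multiplicative (N →+ M)) A e := by
  obtain ⟨υ₀, h₀, hp⟩ := K6.HomDS.exists_representsHom S M N
  obtain ⟨a, ha, -⟩ := h₀.2 A υ h.1
  obtain ⟨b, hb', -⟩ := h.2 _ υ₀ h₀.1
  have hab : a ≫ b = 𝟙 A := by
    refine (h.2 A υ h.1).unique ?_ ?_
    · rw [MonoidalCategory.whiskerLeft_comp, Category.assoc, hb', ha]
    · rw [MonoidalCategory.whiskerLeft_id, Category.id_comp]
  have hba : b ≫ a = 𝟙 _ := by
    refine (h₀.2 _ υ₀ h₀.1).unique ?_ ?_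
    · rw [MonoidalCategory.whiskerLeft_comp, Category.assoc, ha, hb']
    · rw [MonoidalCategory.whiskerLeft_id, Category.id_comp]
  have key : ∀ φ : N →+ M, (Red.DS S M ◁ (ptT (N →+ M) φ (𝟙_ (Over S)) ≫ b)) ≫ υ = cfam S φ _ := by
    intro φ
    rw [MonoidalCategory.whiskerLeft_comp, Category.assoc, hb', hp]
  refine ⟨⟨a, b, hab, hba⟩, fun φ ψ => ?_⟩
  have h1 : ∀ φ : N →+ M, pt S (Multiplicative (N →+ M)) (Multiplicative.ofAdd φ) = ptT (N →+ M) φ (𝟙_ (Over S)) :=
    fun φ => (ptT_unit _).symm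
  have h2 : ∀ x y : 𝟙_ (Over S) ⟶ A, (Red.DS S M ◁ x) ≫ υ = (Red.DS S M ◁ y) ≫ υ → x = y := fun x y hxy =>
    (h.2 _ _ (IsoFam.isHomFamily_pull h.1 y)).unique hxy rfl
  apply h2
  rw [whisker_mul hb]
  refine (congrArg₂ (· * ·) (key φ.toAdd) (key ψ.toAdd)).trans ?_
  rw [cfam_mul]
  exact (key (φ.toAdd + ψ.toAdd)).symm

/-- Reindexing a constant group. -/
theorem isConstGrp_reindex {A : Over S} [GrpObj A] {I : Type v} {J : Type w} [Group I] [Group J] [Small.{u} I]
    [Small.{u} J] (ε : I ≃* J) {e : A ≅ const S I} (he : IsConstGrp I A e) :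
    IsConstGrp J A (e ≪≫ K6.ConstAff.reindex S ε.toEquiv) := by
  have h1 : ∀ j : J, pt S J j ≫ (K6.ConstAff.reindex S ε.toEquiv).inv = pt S I (ε.symm j) := by
    intro j
    apply Over.OverMorphism.ext
    exact Sigma.ι_desc _ _
  intro i j
  rw [Iso.trans_inv, ← Category.assoc, ← Category.assoc, ← Category.assoc, h1, h1, h1, he, map_mul]

end const

section dual

variable {S : Scheme.{u}}

/-- `D(N)` is commutative. -/
theorem ds_comm (N : Type) [AddCommGroup N] (X : Over S) (a b : X ⟶ Red.DS S N) : a * b = b * a := by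
  apply (dsEquiv _ N).symm.injective
  change dsChar _ = dsChar _
  rw [dsChar_mul, dsChar_mul, mul_comm]

/-- Shrinking an étale neighbourhood to an affine one. -/
theorem exists_affine_etale {H : Over S} [GrpObj H] (s : S)
    (hH : ∃ (S' : Scheme.{u}) (f : S' ⟶ S), Etale f ∧ s ∈ Set.range f.base ∧ ∃ (M : Type) (_ : AddCommGroup M),
      Nonempty (Grp.mk (Red.bc f H) ≅ Grp.mk (Red.DS S' M))) :
    ∃ (R : CommRingCat.{u}) (f : Spec R ⟶ S), Etale f ∧ s ∈ Set.range f ∧ ∃ (M : Type) (_ : AddCommGroup M),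
      Nonempty (Grp.mk (Red.bc f H) ≅ Grp.mk (Red.DS (Spec R) M)) := by
  obtain ⟨S', f, hf, ⟨s', hs'⟩, M, _, ⟨e⟩⟩ := hH
  obtain ⟨R, v, hv, ⟨x, hx⟩, -⟩ := BorLoc613.exists_spec_nhd (⊤ : S'.Opens) (s := s') trivial
  refine ⟨R, v ≫ f, inferInstance, ⟨x, ?_⟩, M, inferInstance, ⟨?_⟩⟩
  · rw [Scheme.Hom.comp_apply, hx]
    exact hs'
  · exact BcIso.bcCompIso v f H ≪≫ BcIso.bcMapIso v e ≪≫ TorusAlgClosed.dsBcIso v M

/-- **The dual of a quasi-isotrivial group of multiplicative type** is a quasi-isotrivial twisted constant group. -/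
theorem exists_dual {H : Over S} [GrpObj H] (N : Type) [AddCommGroup N] [Module.Finite ℤ N]
    (hH : ∀ s : S, ∃ (S' : Scheme.{u}) (f : S' ⟶ S), Etale f ∧ s ∈ Set.range f.base ∧
      ∃ (M : Type) (_ : AddCommGroup M), Nonempty (Grp.mk (Red.bc f H) ≅ Grp.mk (Red.DS S' M))) :
    ∃ (D : Over S) (_ : GrpObj D) (υ : H ⊗ D ⟶ Red.DS S N), AutFam.RepresentsHom H (Red.DS S N) D υ ∧
      IsBil υ ∧ TwC.IsTwConstGrp TwC.Topology.etale D := by
  obtain ⟨D, υ, hD⟩ := RepDescent.exists_representsHom_of_etale H (Red.DS S N) (by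
    intro s
    obtain ⟨R, f, hf, hs, M, _, ⟨e⟩⟩ := exists_affine_etale s (hH s)
    obtain ⟨υ, hυ, -⟩ := K6.HomDS.exists_representsHom (Spec R) M N
    let a : Red.bc f H ≅ Red.DS (Spec R) M := (Grp.forget _).mapIso e
    let b : Red.bc f (Red.DS S N) ≅ Red.DS (Spec R) N := (Grp.forget _).mapIso (TorusAlgClosed.dsBcIso f N)
    have ha : IsMonHom a.hom := e.hom.hom.isMonHom_hom
    have hb : IsMonHom b.hom := (TorusAlgClosed.dsBcIso f N).hom.hom.isMonHom_hom
    exact ⟨_, f, hf, hs, _, _, HomFun898.representsHom_of_iso a b hυ,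
      fun U hU => K6.ConstAff.isQuasiAffine_const _ U hU⟩)
  obtain ⟨_, hbil⟩ := exists_grpObj (ds_comm N) hD
  refine ⟨D, inferInstance, υ, hD, hbil, fun s => ?_⟩
  obtain ⟨R, f, hf, hs, M, _, ⟨e⟩⟩ := exists_affine_etale s (hH s)
  obtain ⟨υ', h1, h2⟩ := exists_bc_bil hD hbil f
  let a : Red.bc f H ≅ Red.DS (Spec R) M := (Grp.forget _).mapIso e
  let b : Red.bc f (Red.DS S N) ≅ Red.DS (Spec R) N := (Grp.forget _).mapIso (TorusAlgClosed.dsBcIso f N)
  have ha : IsMonHom a.hom := e.hom.hom.isMonHom_hom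
  have hb : IsMonHom b.hom := (TorusAlgClosed.dsBcIso f N).hom.hom.isMonHom_hom
  have ha' : IsMonHom a.symm.hom := inferInstanceAs (IsMonHom a.inv)
  have hb' : IsMonHom b.symm.hom := inferInstanceAs (IsMonHom b.inv)
  have h3 : AutFam.RepresentsHom (Red.DS (Spec R) M) (Red.DS (Spec R) N) (Red.bc f D)
      ((a.symm.hom ▷ Red.bc f D) ≫ υ' ≫ b.symm.inv) :=
    HomFun898.representsHom_of_iso a.symm b.symm h1
  have h4 : IsBil ((a.symm.hom ▷ Red.bc f D) ≫ υ' ≫ b.symm.inv) :=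
    h2.of_iso a.symm.hom b.hom
  obtain ⟨ε, hε⟩ := exists_const_iso h3 h4
  exact ⟨Spec R, f, hf, hs, ULift.{u} (Multiplicative (N →+ M)), inferInstance, _,
    isConstGrp_reindex MulEquiv.ulift.symm hε⟩

end dual

end K6.DualMT
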