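import Groth.Agent.SGA3x.K6.ConstFin
import Groth.Agent.Sga3B.FpqcLoc
import Groth.Agent.S0084

/-!
# Closed subschemes of twisted constant schemes which are quasi-compact over the base are finite
-/

set_option autoImplicit false
set_option backward.isDefEq.respectTransparency false
open CategoryTheory AlgebraicGeometry CategoryTheory.Limits
universe u

namespace K6.TwConstFin

open K6.Const K6.ConstFin TwC

/-- Let `g : T ⟶ S` be such that `R ×_S T` is constant.  For `z : Z ⟶ R` the base change of `Z` along `g` is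
a scheme over `M_T`. -/
theorem exists_bc_of_iso {S T : Scheme.{u}} {R : Over S} (g : T ⟶ S) {M : Type u} (e : Red.bc g R ≅ const T M)
    {Z : Scheme.{u}} (z : Z ⟶ R.left) :
    ∃ (z' : pullback (z ≫ R.hom) g ⟶ ∐ fun _ : M => T) (q : (∐ fun _ : M => T) ⟶ R.left),
      z' ≫ Sigma.desc (fun _ : M => 𝟙 T) = pullback.snd (z ≫ R.hom) g ∧
      IsPullback (pullback.fst (z ≫ R.hom) g) z' z q ∧
      IsPullback q (Sigma.desc fun _ : M => 𝟙 T) R.hom g := by
  let q : (const T M).left ⟶ R.left := e.inv.left ≫ pullback.fst R.hom g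
  have hq : IsPullback q (const T M).hom R.hom g := by
    refine IsPullback.of_iso (IsPullback.of_hasPullback R.hom g) ((Over.forget _).mapIso e) (Iso.refl _)
      (Iso.refl _) (Iso.refl _) ?_ ?_ ?_ ?_
    · change pullback.fst R.hom g ≫ 𝟙 _ = e.hom.left ≫ e.inv.left ≫ pullback.fst R.hom g
      rw [← Over.comp_left_assoc, e.hom_inv_id, Over.id_left, Category.id_comp, Category.comp_id]
    · change pullback.snd R.hom g ≫ 𝟙 _ = e.hom.left ≫ (const T M).hom
      rw [Over.w e.hom, Category.comp_id]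
      rfl
    · simp
    · simp
  have h1 := IsPullback.of_hasPullback (z ≫ R.hom) g
  refine ⟨hq.lift (pullback.fst _ _ ≫ z) (pullback.snd _ _) (by rw [Category.assoc]; exact h1.w), q,
    hq.lift_snd _ _ _, ?_, hq⟩
  refine IsPullback.of_bot ?_ (hq.lift_fst _ _ _).symm hq
  rw [hq.lift_snd]
  exact h1

theorem isFinite_of_isTwConst_fpqc {S : Scheme.{u}} (R : Over S) (hR : IsTwConst Topology.fpqc R)
    {Z : Scheme.{u}} (z : Z ⟶ R.left) [IsClosedImmersion z] [QuasiCompact (z ≫ R.hom)] :
    IsFinite (z ≫ R.hom) := by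
  obtain ⟨S', f, hf, hs, hc, h⟩ := hR
  have hdesc := Groth.Agent.S0084.result.{u}
  refine Groth.Agent.Sga3B.FpqcLoc.of_fpqc_cover (P := @IsFinite.{u}) (z ≫ R.hom) f hc fun s' => ?_
  obtain ⟨U, hU, M, ⟨e⟩⟩ := h s'
  refine ⟨U, hU, ?_⟩
  obtain ⟨z', q, h1, h2, h3⟩ := exists_bc_of_iso (U.ι ≫ f) e z
  have h4 : IsClosedImmersion z' := MorphismProperty.of_isPullback (P := @IsClosedImmersion) h2 inferInstance
  have h5 : QuasiCompact (z' ≫ Sigma.desc fun _ : M => 𝟙 (U : Scheme.{u})) := by
    rw [h1]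
    infer_instance
  have h6 := isFinite_of_quasiCompact z'
  rw [h1] at h6
  exact h6

end K6.TwConstFin
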