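import Groth.Agent.SGA3x.K6.HomGrp
import Groth.Agent.Sga3.H828.FpqcRep
import Groth.Agent.Sga1.PushFun

/-!
# fpqc descent of representability of `Hom_{S-gr}(G, H)`

* `isZarSheaf_homF`, `isDesc_homF`: `Hom_{S-gr}(G, H)` is a Zariski sheaf and satisfies descent along flat surjective
  quasi-compact morphisms;
* `exists_representsHom_of_fpqc`: representability by objects with a property `P` (local, stable, fpqc-descending)
  which are quasi-affine can be checked fpqc-locally.
-/

set_option autoImplicit false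

universe u

open CategoryTheory CategoryTheory.Limits MonoidalCategory CartesianMonoidalCategory MonObj GrpObj AlgebraicGeometry
  Opposite

namespace K6.FpqcHom

open Groth.Agent.Sga3B.RepDescent Groth.Agent.Desc.SecPresheaf Groth.Agent.Desc.SecDescent Groth.Agent.Picfga.OverRep

variable {S : Scheme.{u}}

/-- Étale sheaves are Zariski sheaves. -/
theorem isZarSheaf_of_isEtSheaf {F : (Over S)ᵒᵖ ⥤ Type u} (hF : IsEtSheaf F) : IsZarSheaf F := by
  intro T 𝒰 x hx
  exact hF 𝒰.V 𝒰.j (fun i => by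
    have := 𝒰.isOpen i
    infer_instance) 𝒰.covers x (fun i j R a b hab => hx i j R a b hab)

/-- Descent of morphisms along flat surjective quasi-compact morphisms. -/
theorem isDesc_yoneda (H : Over S) {T' T : Over S} (g : T' ⟶ T) [Flat g.left] [Surjective g.left]
    [QuasiCompact g.left] : IsDesc (yoneda.obj H) g :=
  Groth.Agent.Sga1.PushFun.isDesc_yoneda H g

section fam

variable (G H : Over S)

/-- The product of `g` with `G`. -/
theorem isPullback_whisker {T' T : Over S} (g : T' ⟶ T) :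
    IsPullback (G ◁ g).left (snd G T').left (snd G T).left g.left := by
  have h1 : IsPullback (G ◁ g) (snd G T') (snd G T) g := by
    refine ⟨⟨by simp⟩, ⟨PullbackCone.IsLimit.mk _ (fun s => lift (s.fst ≫ fst G T) s.snd) ?_ ?_ ?_⟩⟩
    · intro s
      apply CartesianMonoidalCategory.hom_ext
      · simp
      · simp [s.condition]
    · intro s
      simp
    · intro s m h1 h2
      apply CartesianMonoidalCategory.hom_ext
      · rw [lift_fst, ← h1]
        simp
      · rw [lift_snd, ← h2]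
  exact h1.map (Over.forget S)

theorem isDesc_famF {T' T : Over S} (g : T' ⟶ T) [Flat g.left] [Surjective g.left]
    [QuasiCompact g.left] : IsDesc (famF G H) g := by
  have h0 := isPullback_whisker G g
  have h1 : Flat (G ◁ g).left := MorphismProperty.of_isPullback h0.flip inferInstance
  have h2 : Surjective (G ◁ g).left := MorphismProperty.of_isPullback h0.flip inferInstance
  have h3 : QuasiCompact (G ◁ g).left := MorphismProperty.of_isPullback h0.flip inferInstance
  have h4 := isDesc_yoneda H (G ◁ g)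
  constructor
  · intro a b hab
    exact h4.inj a b hab
  · intro a ha
    refine h4.glue a fun Z z₀ z₁ hz => ?_
    have e0 : z₀ = lift (z₀ ≫ fst G T') (𝟙 Z) ≫ (G ◁ (z₀ ≫ snd G T')) := by
      apply CartesianMonoidalCategory.hom_ext <;> simp
    have e1 : z₁ = lift (z₁ ≫ fst G T') (𝟙 Z) ≫ (G ◁ (z₁ ≫ snd G T')) := by
      apply CartesianMonoidalCategory.hom_ext <;> simp
    have e2 : z₀ ≫ fst G T' = z₁ ≫ fst G T' := by
      have := congrArg (· ≫ fst G T) hz
      simpa using this
    have e3 : (z₀ ≫ snd G T') ≫ g = (z₁ ≫ snd G T') ≫ g := by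
      have := congrArg (· ≫ snd G T) hz
      simpa using this
    have e4 : (G ◁ (z₀ ≫ snd G T')) ≫ (a : G ⊗ T' ⟶ H) = (G ◁ (z₁ ≫ snd G T')) ≫ (a : G ⊗ T' ⟶ H) :=
      ha Z _ _ e3
    change z₀ ≫ (a : G ⊗ T' ⟶ H) = z₁ ≫ (a : G ⊗ T' ⟶ H)
    rw [e0, e1, Category.assoc, Category.assoc, e4, e2]

variable [GrpObj G] [GrpObj H]

theorem isHomFamily_of_fpqc {T' T : Over S} (g : T' ⟶ T) [Flat g.left] [Surjective g.left]
    [QuasiCompact g.left] (φ : G ⊗ T ⟶ H) (h : AutFam.IsHomFamily G H ((G ◁ g) ≫ φ)) :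
    AutFam.IsHomFamily G H φ := by
  intro X g₁ g₂ t
  let R : Over S := Over.mk (pullback.fst t.left g.left ≫ X.hom)
  let p : R ⟶ X := Over.homMk (pullback.fst t.left g.left) rfl
  let q : R ⟶ T' := Over.homMk (pullback.snd t.left g.left) (by
    change pullback.snd t.left g.left ≫ T'.hom = pullback.fst t.left g.left ≫ X.hom
    rw [← Over.w g, ← Category.assoc, ← pullback.condition, Category.assoc, Over.w t])
  have hpq : p ≫ t = q ≫ g := Over.OverMorphism.ext pullback.condition
  have p1 : Flat p.left := by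
    change Flat (pullback.fst t.left g.left)
    infer_instance
  have p2 : Surjective p.left := by
    change Surjective (pullback.fst t.left g.left)
    infer_instance
  have p3 : QuasiCompact p.left := by
    change QuasiCompact (pullback.fst t.left g.left)
    infer_instance
  apply (isDesc_yoneda H p).inj
  change p ≫ lift (g₁ * g₂) t ≫ φ = p ≫ ((lift g₁ t ≫ φ) * (lift g₂ t ≫ φ))
  have h1 := h R (p ≫ g₁) (p ≫ g₂) q
  simp only [← Category.assoc, lift_whiskerLeft] at h1
  rw [← hpq] at h1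
  rw [MonObj.comp_mul, ← Category.assoc, ← Category.assoc, ← Category.assoc, comp_lift, comp_lift, comp_lift,
    MonObj.comp_mul]
  exact h1

theorem isDesc_homF {T' T : Over S} (g : T' ⟶ T) [Flat g.left] [Surjective g.left]
    [QuasiCompact g.left] : IsDesc (homF G H) g := by
  have h0 := isDesc_famF G H g
  constructor
  · intro a b hab
    exact Subtype.ext (h0.inj a.1 b.1 (congrArg Subtype.val hab))
  · intro a ha
    obtain ⟨b, hb⟩ := h0.glue a.1 fun Z z₀ z₁ hz => congrArg Subtype.val (ha Z z₀ z₁ hz)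
    have hb' : AutFam.IsHomFamily G H ((G ◁ g) ≫ (b : G ⊗ T ⟶ H)) := by
      have h1 : (G ◁ g) ≫ (b : G ⊗ T ⟶ H) = (a.1 : G ⊗ T' ⟶ H) := hb
      rw [h1]
      exact a.2
    exact ⟨⟨b, isHomFamily_of_fpqc G H g b hb'⟩, Subtype.ext hb⟩

end fam

/-- **fpqc descent of representability of `Hom_{S-gr}(G, H)`.** -/
theorem exists_representsHom_of_fpqc (G H : Over S) [GrpObj G] [GrpObj H]
    (P : MorphismProperty Scheme.{u}) [IsZariskiLocalAtTarget P] [P.IsStableUnderBaseChange]
    [P.DescendsAlong (@Surjective ⊓ @Flat ⊓ @QuasiCompact)]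
    {S' : Scheme.{u}} (f : S' ⟶ S) [Flat f] [Surjective f]
    (hc : ∀ V : S.Opens, IsAffineOpen V → ∃ W : S'.Opens, IsCompact (W : Set S') ∧
      f.base '' (W : Set S') = (V : Set S))
    (h : ∀ s' : S', ∃ U : S'.Opens, s' ∈ U ∧ ∃ (E : Over U.toScheme)
      (υ : Red.bc (U.ι ≫ f) G ⊗ E ⟶ Red.bc (U.ι ≫ f) H),
      AutFam.RepresentsHom (Red.bc (U.ι ≫ f) G) (Red.bc (U.ι ≫ f) H) E υ ∧ P E.hom ∧ Mor2.IsQuasiAffine E.hom) :
    ∃ (A : Over S) (υ : G ⊗ A ⟶ H), AutFam.RepresentsHom G H A υ ∧ P A.hom := by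
  obtain ⟨A, hA, ⟨r⟩⟩ := Groth.Agent.Sga3.H828.FpqcRep.exists_rep_of_fpqcCover (homF G H)
    (isZarSheaf_of_isEtSheaf (isEtSheaf_homF G H))
    (fun g h1 h2 h3 => isDesc_homF G H g) P f hc (fun s' => by
      obtain ⟨U, hU, E, υ, hυ, hE, hE'⟩ := h s'
      exact ⟨U, hU, E, hE, hE', ⟨(repHom hυ).ofIso (homFIso (U.ι ≫ f) G H)⟩⟩)
  obtain ⟨υ, hυ⟩ := exists_representsHom r
  exact ⟨A, υ, hυ, hA⟩

end K6.FpqcHom
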