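import Groth.Agent.SGA3x.K6.DualConst
import Groth.Agent.SGA3x.K6.FpqcHom

/-!
# The dual of a commutative twisted constant group (fpqc)

* `exists_grpIso`: two bilinear representing families of `Hom_{S-gr}(H, G)` give isomorphic groups;
* `exists_dual_fpqc`: for `R` commutative, fpqc-locally constant, `Hom_{S-gr}(R, G_m)` is represented by an affine group
  which is fpqc-locally `D(M)`.
-/

set_option autoImplicit false

universe u v w

open CategoryTheory MonoidalCategory CartesianMonoidalCategory MonObj GrpObj AlgebraicGeometry Limits Opposite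

namespace K6.DualFpqc

open Groth.Agent.Sga3B Groth.Agent.Sga3B.DSPts Groth.Agent.Sga3B.BcPts TwC K6.ConstRep K6.HomGrp K6.DualConst

variable {S : Scheme.{u}}

/-- Two bilinear representing families give isomorphic groups. -/
theorem exists_grpIso {H G : Over S} [GrpObj H] [GrpObj G] {A A' : Over S} [GrpObj A] [GrpObj A'] {υ : H ⊗ A ⟶ G}
    {υ' : H ⊗ A' ⟶ G} (h : AutFam.RepresentsHom H G A υ) (hb : IsBil υ) (h' : AutFam.RepresentsHom H G A' υ')
    (hb' : IsBil υ') : Nonempty (Grp.mk A ≅ Grp.mk A') := by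
  obtain ⟨a, ha, -⟩ := h'.2 A υ h.1
  obtain ⟨b, hb₀, -⟩ := h.2 _ υ' h'.1
  have hab : a ≫ b = 𝟙 A := by
    refine (h.2 A υ h.1).unique ?_ ?_
    · rw [MonoidalCategory.whiskerLeft_comp, Category.assoc, hb₀, ha]
    · rw [MonoidalCategory.whiskerLeft_id, Category.id_comp]
  have hba : b ≫ a = 𝟙 _ := by
    refine (h'.2 _ υ' h'.1).unique ?_ ?_
    · rw [MonoidalCategory.whiskerLeft_comp, Category.assoc, ha, hb₀]
    · rw [MonoidalCategory.whiskerLeft_id, Category.id_comp]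
  have hmon : IsMonHom a := InfConjFam.isMonHom_of_mul _ fun T x y => by
    refine (h'.2 T ((H ◁ ((x * y) ≫ a)) ≫ υ') (IsoFam.isHomFamily_pull h'.1 _)).unique rfl ?_
    rw [whisker_mul hb', MonoidalCategory.whiskerLeft_comp, MonoidalCategory.whiskerLeft_comp,
      MonoidalCategory.whiskerLeft_comp, Category.assoc, Category.assoc, Category.assoc, ha, whisker_mul hb]
  exact ⟨Grp.mkIso' ⟨a, b, hab, hba⟩⟩

/-- A constant group over a nonempty base which is commutative comes from a commutative group. -/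
theorem comm_of_isConstGrp {M : Type v} [Group M] [Small.{u} M] {G : Over S} [GrpObj G] {e : G ≅ const S M}
    (he : IsConstGrp M G e) (hS : Nonempty S) (hcomm : ∀ (X : Over S) (a b : X ⟶ G), a * b = b * a) (m n : M) :
    m * n = n * m := by
  refine jT_injective (S := S) e (T := 𝟙_ (Over S)) hS ?_
  rw [← jT_mul e he, ← jT_mul e he, hcomm]

/-- Commutativity is stable under base change. -/
theorem comm_bc {G : Over S} [GrpObj G] (hcomm : ∀ (X : Over S) (a b : X ⟶ G), a * b = b * a) {V : Scheme.{u}}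
    (v : V ⟶ S) (X : Over V) (a b : X ⟶ Red.bc v G) : a * b = b * a := by
  apply (bcMulEquiv v X G).symm.injective
  rw [map_mul, map_mul, hcomm]

/-- The local form. -/
theorem exists_local {R : Over S} [GrpObj R] (hcomm : ∀ (X : Over S) (a b : X ⟶ R), a * b = b * a)
    {V : Scheme.{u}} (hV : Nonempty V) (v : V ⟶ S)
    (h : ∃ (M : Type) (_ : Group M) (e : Red.bc v R ≅ TwC.const V M), TwC.IsConstGrp M (Red.bc v R) e) :
    ∃ (M : Type) (_ : AddCommGroup M) (υ : Red.bc v R ⊗ Red.DS V M ⟶ Red.bc v (Red.DS S ℤ)),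
      AutFam.RepresentsHom (Red.bc v R) (Red.bc v (Red.DS S ℤ)) (Red.DS V M) υ ∧ IsBil υ := by
  obtain ⟨M, _, e, he⟩ := h
  let _ : CommGroup M := { mul_comm := comm_of_isConstGrp he hV (comm_bc hcomm v) }
  obtain ⟨υ, h1, h2⟩ := exists_dual_const (M := M) he
  let b : Red.bc v (Red.DS S ℤ) ≅ Red.DS V ℤ := (Grp.forget _).mapIso (TorusAlgClosed.dsBcIso v ℤ)
  have hb : IsMonHom b.hom := (TorusAlgClosed.dsBcIso v ℤ).hom.hom.isMonHom_hom
  have ha : IsMonHom (Iso.refl (Red.bc v R)).hom := inferInstanceAs (IsMonHom (𝟙 _))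
  exact ⟨Additive M, inferInstance, _, HomFun898.representsHom_of_iso (Iso.refl (Red.bc v R)) b h1,
    h2.of_iso (Iso.refl (Red.bc v R)).hom b.inv⟩

theorem isQuasiAffine_of_isAffineHom {X Y : Scheme.{u}} (f : X ⟶ Y) [IsAffineHom f] : Mor2.IsQuasiAffine f := by
  refine ⟨inferInstance, fun V hV => ?_⟩
  have : IsAffine (f ⁻¹ᵁ V : Scheme.{u}) := hV.preimage f
  infer_instance

/-- **The dual of a commutative twisted constant group.** -/
theorem exists_dual_fpqc (R : Over S) [GrpObj R]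
    (hR : TwC.Locally S TwC.Topology.fpqc (fun S' f => ∃ (M : Type) (_ : Group M) (e : Red.bc f R ≅ TwC.const S' M),
      TwC.IsConstGrp M (Red.bc f R) e))
    (hcomm : ∀ (X : Over S) (a b : X ⟶ R), a * b = b * a) :
    ∃ (D : Over S) (_ : GrpObj D) (υ : R ⊗ D ⟶ Red.DS S ℤ), AutFam.RepresentsHom R (Red.DS S ℤ) D υ ∧ IsBil υ ∧
      IsAffineHom D.hom ∧
      TwC.Locally S TwC.Topology.fpqc (fun S' f => ∃ (M : Type) (_ : AddCommGroup M),
        Nonempty (Grp.mk (Red.bc f D) ≅ Grp.mk (Red.DS S' M))) := by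
  obtain ⟨S', f, hf, hs, hc, hloc⟩ := hR
  obtain ⟨D, υ, hD, hDa⟩ := K6.FpqcHom.exists_representsHom_of_fpqc R (Red.DS S ℤ) @IsAffineHom f hc (by
    intro s'
    obtain ⟨U, hU, h⟩ := hloc s'
    obtain ⟨M, _, υ, h1, -⟩ := exists_local hcomm ⟨(⟨s', hU⟩ : U)⟩ (U.ι ≫ f) h
    have h2 : IsAffineHom (Red.DS (U : Scheme.{u}) M).hom :=
      MorphismProperty.pullback_snd (P := @IsAffineHom) _ _ (TorusAlgClosed.diag_isAffineHom.{u} M)
    exact ⟨U, hU, _, υ, h1, h2, isQuasiAffine_of_isAffineHom _⟩)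
  obtain ⟨_, hbil⟩ := exists_grpObj (K6.DualMT.ds_comm ℤ) hD
  refine ⟨D, inferInstance, υ, hD, hbil, hDa, S', f, hf, hs, hc, fun s' => ?_⟩
  obtain ⟨U, hU, h⟩ := hloc s'
  obtain ⟨M, _, υ₁, h1, h2⟩ := exists_local hcomm ⟨(⟨s', hU⟩ : U)⟩ (U.ι ≫ f) h
  obtain ⟨υ₂, h3, h4⟩ := exists_bc_bil hD hbil (U.ι ≫ f)
  exact ⟨U, hU, M, inferInstance, exists_grpIso h3 h4 h1 h2⟩

end K6.DualFpqc
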