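import Groth.Prelude.Def_TwC
import Groth.Agent.SGA3b.K6.EtGood
import Groth.Agent.SGA3x.K13.MTHopf
import Groth.Agent.SGA3.K203.FibHom
import Groth.Agent.EGA43.K122.NormUnibranchSch
import Groth.Agent.S13112
import Groth.Agent.S0408
import Groth.Agent.Sga3A.FibSpread

/-!
# Étale neighbourhoods with an open and closed isotrivial subgroup: scheme form
-/

set_option autoImplicit false

universe u

open CategoryTheory MonoidalCategory CartesianMonoidalCategory MonObj GrpObj AlgebraicGeometry Limits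
open TensorProduct SGA3b
open Groth.Agent Groth.Agent.Books.AffBridge Groth.Agent.Sga3A Groth.Agent.Sga3A.MTBasis Groth.Agent.Sga3B
open K10.MTLoc K201.HomBC K6.GoodIdem

namespace K6.EtNbhd

section point

variable {R : Type u} [CommRing R] (p : Ideal R) [p.IsPrime] {E : Type u} [CommRing E] [Algebra R E]
  (χ : E →ₐ[R] p.ResidueField)

/-- Maps out of `E` which agree with `χ` on `R` and kill `ker χ`. -/
theorem factor {K : Type u} [Field K] [Algebra R K] (θ : p.ResidueField →ₐ[R] K) (g : E →ₐ[R] K)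
    (hg : ∀ x, χ x = 0 → g x = 0) (x : E) : θ (χ x) = g x := by
  obtain ⟨a, b, hb, hab⟩ := IsFractionRing.div_surjective (A := R ⧸ p) (χ x)
  obtain ⟨a, rfl⟩ := Ideal.Quotient.mk_surjective a
  obtain ⟨b, rfl⟩ := Ideal.Quotient.mk_surjective b
  have hb0 : algebraMap (R ⧸ p) p.ResidueField (Ideal.Quotient.mk p b) ≠ 0 :=
    IsFractionRing.to_map_ne_zero_of_mem_nonZeroDivisors hb
  have h1 : algebraMap R p.ResidueField b * χ x = algebraMap R p.ResidueField a := by
    have h2 := (div_eq_iff hb0).mp hab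
    rw [mul_comm]
    exact h2.symm
  have h3 : χ (algebraMap R E b * x - algebraMap R E a) = 0 := by
    rw [map_sub, map_mul, AlgHom.commutes, AlgHom.commutes, h1, sub_self]
  have h4 := hg _ h3
  rw [map_sub, map_mul, AlgHom.commutes, AlgHom.commutes, sub_eq_zero] at h4
  have h5 := congrArg θ h1
  rw [map_mul, AlgHom.commutes, AlgHom.commutes] at h5
  have h6 : algebraMap R K b ≠ 0 := by
    rw [← θ.commutes]
    intro h
    exact hb0 (θ.toRingHom.injective (h.trans (map_zero θ).symm))
  exact mul_left_cancel₀ h6 (h5.trans h4.symm)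

/-- An element which vanishes along `χ` lies in all primes over the point `ker χ`. -/
theorem mem_of_comap {C : Type u} [CommRing C] [HopfAlgebra R C] {e : E ⊗[R] C} (he : mapL C χ e = 0)
    (P : Ideal (E ⊗[R] C)) [P.IsPrime] (hP : P.comap (algebraMap E (E ⊗[R] C)) = RingHom.ker χ) :
    e ∈ P := by
  have hp : p = P.comap (algebraMap R (E ⊗[R] C)) := by
    rw [IsScalarTower.algebraMap_eq R E (E ⊗[R] C), ← Ideal.comap_comap, hP]
    ext r
    rw [Ideal.mem_comap, RingHom.mem_ker]
    rw [AlgHom.commutes, Ideal.algebraMap_residueField_eq_zero]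
  let θ : p.ResidueField →ₐ[R] P.ResidueField := Ideal.ResidueField.mapₐ p P (Algebra.ofId R _) hp
  let g : E →ₐ[R] P.ResidueField := IsScalarTower.toAlgHom R E P.ResidueField
  have hθ : ∀ x, θ (χ x) = g x := factor p χ θ g (fun x hx => by
    have h1 : algebraMap E (E ⊗[R] C) x ∈ P := by
      have h2 : x ∈ P.comap (algebraMap E (E ⊗[R] C)) := by rw [hP]; exact hx
      exact h2
    change algebraMap E P.ResidueField x = 0
    rw [IsScalarTower.algebraMap_apply E (E ⊗[R] C), Ideal.algebraMap_residueField_eq_zero]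
    exact h1)
  let c : C →ₐ[R] P.ResidueField :=
    (IsScalarTower.toAlgHom R (E ⊗[R] C) P.ResidueField).comp Algebra.TensorProduct.includeRight
  let G : p.ResidueField ⊗[R] C →ₐ[R] P.ResidueField := Algebra.TensorProduct.lift θ c (fun _ _ => .all _ _)
  have h3 : G.comp (mapL C χ) = IsScalarTower.toAlgHom R (E ⊗[R] C) P.ResidueField := by
    apply Algebra.TensorProduct.ext
    · ext x
      change G (χ x ⊗ₜ 1) = algebraMap (E ⊗[R] C) P.ResidueField (x ⊗ₜ 1)
      change Algebra.TensorProduct.lift θ c (fun _ _ => .all _ _) (χ x ⊗ₜ 1) = _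
      rw [Algebra.TensorProduct.lift_tmul, map_one, _root_.mul_one, hθ]
      rfl
    · ext x
      change G (χ 1 ⊗ₜ x) = algebraMap (E ⊗[R] C) P.ResidueField (1 ⊗ₜ x)
      change Algebra.TensorProduct.lift θ c (fun _ _ => .all _ _) (χ 1 ⊗ₜ x) = _
      rw [Algebra.TensorProduct.lift_tmul, map_one, map_one, _root_.one_mul]
      rfl
  have h4 := congrArg (fun k => k e) h3
  change G (mapL C χ e) = algebraMap (E ⊗[R] C) P.ResidueField e at h4
  rw [he, map_zero] at h4
  rwa [← Ideal.algebraMap_residueField_eq_zero, eq_comm]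

end point

section split

variable {R A : Type u} [CommRing R] [CommRing A] [HopfAlgebra R A] [Algebra.FiniteType R A]

/-- The scheme form of an isotrivial Hopf algebra of finite type. -/
theorem locally_of_isIsotrivial (h : IsIsotrivial R A) :
    TwC.Locally (Spec (CommRingCat.of R)) TwC.Topology.finiteEtale (fun S'' g =>
      ∃ (M : Type) (_ : AddCommGroup M), AddGroup.FG M ∧
        Nonempty (Grp.mk (Red.bc g (SpecOver R A)) ≅ Grp.mk (Red.DS S'' M))) := by
  obtain ⟨B, _, _, het, hfin, hff, M, _, ⟨e⟩⟩ := h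
  let f : Spec (CommRingCat.of B) ⟶ Spec (CommRingCat.of R) := Spec.map (CommRingCat.ofHom (algebraMap R B))
  have h1 : IsFinite f := by
    rw [IsFinite.SpecMap_iff]
    exact RingHom.finite_algebraMap.mpr hfin
  have h2 : Etale f := by
    rw [HasRingHomProperty.Spec_iff (P := @Etale)]
    exact RingHom.etale_algebraMap.mpr het
  have h3 : Surjective f := ⟨PrimeSpectrum.comap_surjective_of_faithfullyFlat (A := R) (B := B)⟩
  refine ⟨Spec (CommRingCat.of B), f, h1, h2, h3, fun s' => ⟨⊤, trivial, isClosed_univ, ?_⟩⟩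
  have hn : Nontrivial B := by
    rcases subsingleton_or_nontrivial B with hB | hB
    · exact (IsEmpty.false (α := PrimeSpectrum B) s').elim
    · exact hB
  let g := GBasis.ofBialgEquiv e
  have hfg : Group.FG M := Groth.Agent.Sga3A.MTConst.fg_of_gbasis g
  obtain ⟨M₀, _, hM₀, ⟨φ⟩⟩ := Groth.Agent.Sga3.H829.MultConv.exists_type_equiv M
  obtain ⟨e'⟩ := (isSplit_iff (R := R) (A := A) (C := B) M₀).mpr ⟨g.reindex (φ.trans MulEquiv.ulift.symm)⟩
  exact ⟨M₀, inferInstance, hM₀, ⟨BcIso.bcCompIso _ f _ ≪≫ BcIso.bcMapIso _ e' ≪≫ TorusAlgClosed.dsBcIso _ M₀⟩⟩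

theorem isMultTypeFT_of_isIsotrivial (h : IsIsotrivial R A) : SGA3x.IsMultTypeFT (SpecOver R A) := by
  refine K13.MTHopf.isMultTypeFT_of_isMultType (K201.Isotriv.isMultType_of_isIsotrivial h) (fun T _ _ => ?_)
  infer_instance

end split

section affine

variable {R C : Type u} [CommRing R] [CommRing C] [HopfAlgebra R C] (E : Type u) [CommRing E] [Algebra R E]

/-- The open and closed subgroup defined by a good idempotent. -/
theorem exists_subgroup [Algebra.FiniteType R C] (e : E ⊗[R] C) (h : Good E e) :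
    ∃ (G' : Over (Spec (CommRingCat.of E))) (_ : GrpObj G')
      (j : G' ⟶ Red.bc (Spec.map (CommRingCat.ofHom (algebraMap R E))) (SpecOver R C)),
      IsMonHom j ∧ IsOpenImmersion j.left ∧ IsClosedImmersion j.left ∧ SGA3x.IsMultTypeFT G' ∧
      TwC.Locally (Spec (CommRingCat.of E)) TwC.Topology.finiteEtale (fun S'' g =>
        ∃ (M : Type) (_ : AddCommGroup M), AddGroup.FG M ∧
          Nonempty (Grp.mk (Red.bc g G') ≅ Grp.mk (Red.DS S'' M))) ∧
      ∀ z, (∀ P : Ideal (E ⊗[R] C), P.IsPrime → P.comap (algebraMap E (E ⊗[R] C)) =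
        PrimeSpectrum.asIdeal ((Red.bc (Spec.map (CommRingCat.ofHom (algebraMap R E))) (SpecOver R C)).hom z) →
        e ∈ P) → z ∈ Set.range j.left := by
  obtain ⟨he, hH, hi⟩ := h
  obtain ⟨ε⟩ := Hens.Dict.bc_specOver R C E
  let q : (E ⊗[R] C) →ₐc[E] (E ⊗[R] C) ⧸ Ideal.span {e} := Bialgebra.Quotient.mkBialgHom (Ideal.span {e})
  let m : SpecOver E ((E ⊗[R] C) ⧸ Ideal.span {e}) ⟶ SpecOver E (E ⊗[R] C) := specMap E (q : _ →ₐ[E] _)
  have hm : IsMonHom m := isMonHom_specMap E q
  let n := ε.inv.hom.hom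
  have hn : IsMonHom n := ε.inv.hom.isMonHom_hom
  have hnm : ε.hom.hom.hom ≫ n = 𝟙 _ := congrArg (fun f => f.hom.hom) ε.hom_inv_id
  have hmn : n ≫ ε.hom.hom.hom = 𝟙 _ := congrArg (fun f => f.hom.hom) ε.inv_hom_id
  have hniso : IsIso n := ⟨ε.hom.hom.hom, hmn, hnm⟩
  have hnl : IsIso n.left := inferInstance
  have hml : m.left = Spec.map (CommRingCat.ofHom (Ideal.Quotient.mk (Ideal.span {e}))) := rfl
  have hqs : Function.Surjective (Ideal.Quotient.mk (Ideal.span {e} : Ideal (E ⊗[R] C))) :=
    Ideal.Quotient.mk_surjective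
  have hcl : IsClosedImmersion m.left := by
    rw [hml]
    exact IsClosedImmersion.spec_of_surjective _ hqs
  have hop : IsOpenImmersion m.left := by
    rw [hml]
    exact (isOpenImmersion_SpecMap_iff_of_surjective _ hqs).mpr ⟨e, he, Ideal.mk_ker⟩
  refine ⟨SpecOver E ((E ⊗[R] C) ⧸ Ideal.span {e}), inferInstance, m ≫ n, inferInstance, ?_, ?_, ?_, ?_, ?_⟩
  · rw [Over.comp_left]; infer_instance
  · rw [Over.comp_left]; infer_instance
  · exact isMultTypeFT_of_isIsotrivial hi
  · exact locally_of_isIsotrivial hi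
  · intro z hz
    let z' : PrimeSpectrum (E ⊗[R] C) := ε.hom.hom.hom.left z
    have h1 : n.left z' = z := by
      have h2 := congrArg (fun k => k.left z) hnm
      simpa using h2
    have h3 : (SpecOver E (E ⊗[R] C)).hom z' =
        (Red.bc (Spec.map (CommRingCat.ofHom (algebraMap R E))) (SpecOver R C)).hom z := by
      have h4 := congrArg (fun k => k z) (Over.w ε.hom.hom.hom)
      simpa using h4
    have h5 : e ∈ z'.asIdeal := hz z'.asIdeal z'.2 (by rw [← h3]; rfl)
    have h6 : z' ∈ Set.range m.left := by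
      have h7 := range_comap_of_surjective _ _ hqs
      rw [Ideal.mk_ker] at h7
      have h8 : z' ∈ PrimeSpectrum.zeroLocus ((Ideal.span {e} : Ideal (E ⊗[R] C)) : Set (E ⊗[R] C)) := by
        rw [PrimeSpectrum.zeroLocus_span]
        intro x hx
        rw [Set.mem_singleton_iff.mp hx]
        exact h5
      rw [← h7] at h8
      exact h8
    obtain ⟨w, hw⟩ := h6
    refine ⟨w, ?_⟩
    rw [Over.comp_left, Scheme.Hom.comp_apply, hw, h1]

end affine

section chart

variable {S : Scheme.{u}}

/-- An affine chart around a point, with its residue field. -/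
theorem exists_chart (s : S) :
    ∃ (R : Type u) (_ : CommRing R) (i : Spec (CommRingCat.of R) ⟶ S) (_ : IsOpenImmersion i) (x : PrimeSpectrum R)
      (α : Spec (S.residueField s) ≅ Spec (CommRingCat.of x.asIdeal.ResidueField)), i x = s ∧
      α.hom ≫ Spec.map (CommRingCat.ofHom (algebraMap R x.asIdeal.ResidueField)) ≫ i = S.fromSpecResidueField s := by
  obtain ⟨R, _, i, hi, -, ⟨x, rfl⟩⟩ := NearRed.exists_affine S ⊤ s trivial
  have h1 : IsIso (i.residueFieldMap x) := inferInstance
  let y : PrimeSpectrum R := x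
  let β : Spec (CommRingCat.of y.asIdeal.ResidueField) ≅ Spec ((Spec (CommRingCat.of R)).residueField x) :=
    Scheme.Spec.mapIso (Scheme.Spec.residueFieldIso (CommRingCat.of R) x).op
  let γ : Spec ((Spec (CommRingCat.of R)).residueField x) ≅ Spec (S.residueField (i x)) :=
    asIso (Spec.map (i.residueFieldMap x))
  have hβ : β.inv ≫ Spec.map (CommRingCat.ofHom (algebraMap R y.asIdeal.ResidueField)) =
      (Spec (CommRingCat.of R)).fromSpecResidueField x := by
    change Spec.map _ ≫ _ = _
    exact Scheme.Spec.map_residueFieldIso_inv_eq_fromSpecResidueField (CommRingCat.of R) x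
  refine ⟨R, inferInstance, i, hi, y, γ.symm ≪≫ β.symm, rfl, ?_⟩
  rw [Iso.trans_hom, Iso.symm_hom, Iso.symm_hom, Category.assoc, ← Category.assoc β.inv, hβ, Iso.inv_comp_eq]
  exact (Scheme.Hom.SpecMap_residueFieldMap_fromSpecResidueField i x).symm

/-- Flatness of the chart over the point. -/
theorem flat_of_chart {H : Over S} {R C : Type u} [CommRing R] [CommRing C] [HopfAlgebra R C]
    (i : Spec (CommRingCat.of R) ⟶ S) (e : Red.bc i H ≅ SpecOver R C) (x : PrimeSpectrum R)
    (hfl : ∀ y : H.left, H.hom y = i x → (H.hom.stalkMap y).hom.Flat) (q : Ideal C) [hqp : q.IsPrime]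
    (hq : q.LiesOver x.asIdeal) : Module.Flat R (Localization.AtPrime q) := by
  let c : PrimeSpectrum C := ⟨q, hqp⟩
  have hsq : IsPullback (e.inv.left ≫ pullback.fst H.hom i)
      (Spec.map (CommRingCat.ofHom (algebraMap R C))) H.hom i := by
    have h1 : IsPullback (pullback.fst H.hom i) (Red.bc i H).hom H.hom i := IsPullback.of_hasPullback _ _
    have h2 : IsIso e.inv.left := inferInstance
    refine IsPullback.of_iso h1 (asIso e.inv.left).symm (Iso.refl _) (Iso.refl _) (Iso.refl _) ?_ ?_ ?_ ?_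
    · simp
    · rw [Iso.symm_hom, Iso.refl_hom, Category.comp_id, Iso.eq_inv_comp]
      exact Over.w e.inv
    · simp
    · simp
  have hc : Spec.map (CommRingCat.ofHom (algebraMap R C)) c = x := PrimeSpectrum.ext hq.over.symm
  have h3 : H.hom ((e.inv.left ≫ pullback.fst H.hom i) c) = i x := by
    have h4 := congrArg (fun k => k c) hsq.w
    rw [← hc]
    exact h4
  have h5 := (Groth.Agent.Sga3C.FlatPt.isFlatAt_iff_stalkMap _ _).mpr (hfl _ h3)
  have h6 := Groth.Agent.Sga3C.FlatPt.IsFlatAt.of_isPullback hsq c h5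
  exact (K122.NormUnibranchSch.flat_stalkMap_Spec_iff c).mp
    ((Groth.Agent.Sga3C.FlatPt.isFlatAt_iff_stalkMap _ _).mp h6)

/-- The fibre of the chart is of multiplicative type. -/
theorem isMultType_of_chart {H : Over S} [GrpObj H] {R C : Type u} [CommRing R] [CommRing C] [HopfAlgebra R C]
    (i : Spec (CommRingCat.of R) ⟶ S) (e : Red.bc i H ≅ SpecOver R C) [IsMonHom e.hom] {s : S} (x : PrimeSpectrum R)
    (α : Spec (S.residueField s) ≅ Spec (CommRingCat.of x.asIdeal.ResidueField))
    (hα : α.hom ≫ Spec.map (CommRingCat.ofHom (algebraMap R x.asIdeal.ResidueField)) ≫ i = S.fromSpecResidueField s)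
    (hs : SGA3x.IsMultTypeFT (Red.bc (S.fromSpecResidueField s) H)) :
    IsMultType x.asIdeal.ResidueField (x.asIdeal.ResidueField ⊗[R] C) := by
  obtain ⟨ε⟩ := Hens.Dict.bc_specOver R C x.asIdeal.ResidueField
  have h1 : α.inv ≫ S.fromSpecResidueField s =
      Spec.map (CommRingCat.ofHom (algebraMap R x.asIdeal.ResidueField)) ≫ i := by
    rw [← hα, Iso.inv_hom_id_assoc]
  have h2 : SGA3x.IsMultTypeFT (SpecOver x.asIdeal.ResidueField (x.asIdeal.ResidueField ⊗[R] C)) := by
    refine of_iso ?_ (bc α.inv hs)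
    exact (BcIso.bcCompIso α.inv (S.fromSpecResidueField s) H).symm ≪≫ BcIso.bcCongrIso h1 H ≪≫
      BcIso.bcCompIso _ i H ≪≫ BcIso.bcMapIso _ (Grp.mkIso' e) ≪≫ ε
  exact FibSpread.isMultType_of_isQuasiIsotrivial (K13.MTHopf.isQuasiIsotrivial_of_isMultTypeFT h2)

end chart

section main

/-- An open immersion whose image contains a fibre is an isomorphism on this fibre. -/
theorem isIso_fibre {T : Scheme.{u}} {X Y : Over T} (j : X ⟶ Y) [IsOpenImmersion j.left] (y : T)
    (h : ∀ z : Y.left, Y.hom z = y → z ∈ Set.range j.left) :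
    IsIso ((Over.pullback (T.fromSpecResidueField y)).map j).left := by
  have hp := K203.FibHom.isPullback_fib j y
  have h1 : IsOpenImmersion (K203.FibHom.fib j y) := MorphismProperty.of_isPullback hp ‹_›
  refine (isIso_iff_isOpenImmersion_and_surjective _).mpr ⟨h1, ⟨fun z => ?_⟩⟩
  obtain ⟨x, hx⟩ := h (pullback.fst Y.hom (T.fromSpecResidueField y) z) (K203.FibHom.hom_fst z)
  obtain ⟨w, -, hw⟩ := Scheme.Pullback.exists_preimage_pullback x z hx
  refine ⟨hp.isoPullback.inv w, ?_⟩
  rw [← Scheme.Hom.comp_apply, hp.isoPullback_inv_snd]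
  exact hw

/-- **Étale neighbourhoods with an open and closed isotrivial subgroup.** -/
theorem main {S : Scheme.{u}} (H : Over S) [GrpObj H]
    [IsAffineHom H.hom] [LocallyOfFinitePresentation H.hom] (s : S)
    (hfl : ∀ x : ↥H.left, H.hom.base x = s → (H.hom.stalkMap x).hom.Flat)
    (hs : SGA3x.IsMultTypeFT (Red.bc (S.fromSpecResidueField s) H)) :
    ∃ (S' : Scheme.{u}) (f : S' ⟶ S) (s' : S'), Etale f ∧ f.base s' = s ∧ IsIso (f.residueFieldMap s') ∧
      ∃ (G' : Over S') (_ : GrpObj G') (j : G' ⟶ Red.bc f H), IsMonHom j ∧ IsOpenImmersion j.left ∧ IsClosedImmersion j.left ∧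
        SGA3x.IsMultTypeFT G' ∧ TwC.Locally S' TwC.Topology.finiteEtale (fun S'' g => ∃ (M : Type) (_ : AddCommGroup M), AddGroup.FG M ∧ Nonempty (Grp.mk (Red.bc g G') ≅ Grp.mk (Red.DS S'' M))) ∧
        IsIso ((Over.pullback (S'.fromSpecResidueField s')).map j).left := by
  obtain ⟨R, _, i, hi, x, α, hx, hα⟩ := exists_chart s
  have haff : IsAffine (Red.bc i H).left := by
    have : IsAffineHom (Red.bc i H).hom := inferInstanceAs (IsAffineHom (pullback.snd H.hom i))
    exact isAffine_of_isAffineHom (Red.bc i H).hom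
  obtain ⟨C, _, _, e, he⟩ := exists_hopf R (Red.bc i H)
  have hfp : Algebra.FinitePresentation R C := by
    have h1 : LocallyOfFinitePresentation (Red.bc i H).hom :=
      inferInstanceAs (LocallyOfFinitePresentation (pullback.snd H.hom i))
    have h5 : LocallyOfFinitePresentation (e.inv.left ≫ (Red.bc i H).hom) :=
      (MorphismProperty.cancel_left_of_respectsIso @LocallyOfFinitePresentation _ _).mpr h1
    rw [Over.w e.inv] at h5
    have h2 : LocallyOfFinitePresentation (Spec.map (CommRingCat.ofHom (algebraMap R C))) := h5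
    rw [HasRingHomProperty.Spec_iff (P := @LocallyOfFinitePresentation)] at h2
    simp only [CommRingCat.hom_ofHom] at h2
    exact RingHom.finitePresentation_algebraMap.mp h2
  have hmt := isMultType_of_chart i e x α hα hs
  obtain ⟨E, _, _, hE, χ, ε, hgood, hχ⟩ := K6.EtGood.exists_etale_good C x.asIdeal
    (fun q _ hq => flat_of_chart i e x (fun y hy => hfl y (hy.trans hx)) q hq) hmt
  let v : Spec (CommRingCat.of E) ⟶ Spec (CommRingCat.of R) := Spec.map (CommRingCat.ofHom (algebraMap R E))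
  have hv : Etale v := by
    rw [HasRingHomProperty.Spec_iff (P := @Etale)]
    exact RingHom.etale_algebraMap.mpr hE
  let t : Spec (CommRingCat.of x.asIdeal.ResidueField) ⟶ Spec (CommRingCat.of E) := Spec.map (CommRingCat.ofHom χ.toRingHom)
  have htv : t ≫ v = Spec.map (CommRingCat.ofHom (algebraMap R x.asIdeal.ResidueField)) := by
    rw [← Spec.map_comp, ← CommRingCat.ofHom_comp, AlgHom.toRingHom_eq_coe, AlgHom.comp_algebraMap]
  let l : Spec (S.residueField s) ⟶ Spec (CommRingCat.of E) := α.hom ≫ t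
  have hl : l ≫ v ≫ i = S.fromSpecResidueField s := by
    rw [← hα, ← htv]
    simp [l]
  let y : Spec (CommRingCat.of E) := l (IsLocalRing.closedPoint (S.residueField s))
  have hyE : PrimeSpectrum.asIdeal (R := E) y = RingHom.ker χ := by
    let w : PrimeSpectrum x.asIdeal.ResidueField := α.hom (IsLocalRing.closedPoint (S.residueField s))
    have h1 : y = t w := rfl
    have h2 : w.asIdeal = ⊥ := (Ideal.eq_bot_or_top _).resolve_right w.2.ne_top
    have h3 : PrimeSpectrum.asIdeal (R := E) y = w.asIdeal.comap χ.toRingHom := by rw [h1]; rfl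
    rw [h3, h2]
    rfl
  obtain ⟨G', _, j, hj, hjo, hjc, hG', hloc, hrange⟩ := exists_subgroup E ε hgood
  have hiso := isIso_fibre j y (fun z hz => hrange z fun P hP hPz => by
    rw [hz, hyE] at hPz
    exact mem_of_comap x.asIdeal χ hχ P hPz)
  let τ : Grp.mk (Red.bc v (SpecOver R C)) ≅ Grp.mk (Red.bc (v ≫ i) H) :=
    (BcIso.bcCompIso v i H ≪≫ BcIso.bcMapIso v (Grp.mkIso' e)).symm
  let κ : Red.bc v (SpecOver R C) ≅ Red.bc (v ≫ i) H := (Grp.forget _).mapIso τ
  have hκ : IsMonHom κ.hom := τ.hom.hom.isMonHom_hom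
  have hκl : IsIso κ.hom.left := inferInstance
  refine ⟨Spec (CommRingCat.of E), v ≫ i, y, inferInstance, ?_, ?_, G', inferInstance, j ≫ κ.hom, inferInstance,
    ?_, ?_, hG', hloc, ?_⟩
  · change (l ≫ v ≫ i) (IsLocalRing.closedPoint (S.residueField s)) = s
    rw [hl, Scheme.fromSpecResidueField_apply]
  · exact Groth.Agent.S0408.isIso_residueFieldMap_of_surjective _ _
      (Groth.Agent.S13112.residueFieldMap_surjective (v ≫ i) s l hl y rfl)
  · rw [Over.comp_left]; infer_instance
  · rw [Over.comp_left]; infer_instance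
  · rw [Functor.map_comp, Over.comp_left]
    infer_instance

end main

end K6.EtNbhd
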