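import Groth.Agent.SGA3x.K6.UniRat
import Mathlib.AlgebraicGeometry.AffineSpace
import Mathlib.RingTheory.Spectrum.Prime.Topology
import Mathlib.RingTheory.FiniteType

/-!
# Unirationality: from algebras to schemes

`exists_dominant`: a finitely generated algebra embedded in `k(t₁, …, tₙ)` is dominated by an open subscheme of `𝔸ⁿ`.
-/

set_option autoImplicit false

universe u

open CategoryTheory AlgebraicGeometry

namespace K6.UniSch

open K6.UniRat

variable {k : Type u} [Field k] {B : Type u} [CommRing B] [Algebra k B]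

/-- A map to a field of rational functions spreads out. -/
theorem exists_away {σ : Type u} [Algebra.FiniteType k B] (ψ : B →ₐ[k] Fr k σ) :
    ∃ (f : MvPolynomial σ k) (θ : B →ₐ[k] Localization.Away f) (j : Localization.Away f →ₐ[k] Fr k σ),
      f ≠ 0 ∧ j.comp θ = ψ := by
  classical
  obtain ⟨s, hs⟩ := (inferInstance : Algebra.FiniteType k B)
  have hfrac : ∀ b : B, ∃ p q : MvPolynomial σ k, q ≠ 0 ∧ ψ b = algebraMap _ (Fr k σ) p / algebraMap _ (Fr k σ) q := by
    intro b
    obtain ⟨p, q, hq, h⟩ := IsFractionRing.div_surjective (A := MvPolynomial σ k) (ψ b)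
    exact ⟨p, q, nonZeroDivisors.ne_zero hq, h.symm⟩
  choose p q hq hpq using hfrac
  let f : MvPolynomial σ k := ∏ b ∈ s, q b
  have hf : f ≠ 0 := Finset.prod_ne_zero_iff.2 fun b _ => hq b
  have hinj := IsFractionRing.injective (MvPolynomial σ k) (Fr k σ)
  let ι : MvPolynomial σ k →ₐ[k] Fr k σ := IsScalarTower.toAlgHom k _ _
  have hιf : IsUnit (ι f) := isUnit_iff_ne_zero.2 ((map_ne_zero_iff _ hinj).2 hf)
  have hιp : ∀ y : Submonoid.powers f, IsUnit (ι y) := by
    rintro ⟨_, n, rfl⟩
    rw [map_pow]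
    exact hιf.pow n
  let j : Localization.Away f →ₐ[k] Fr k σ :=
    IsLocalization.liftAlgHom (M := Submonoid.powers f) (S := Localization.Away f) (f := ι) hιp
  have hj : ∀ a, j (algebraMap _ _ a) = algebraMap _ (Fr k σ) a := fun a => IsLocalization.lift_eq _ _
  have hjinj : Function.Injective j := by
    rw [injective_iff_map_eq_zero]
    intro a ha
    obtain ⟨x, ⟨t, ht⟩, rfl⟩ := IsLocalization.exists_mk'_eq (Submonoid.powers f) a
    have h3 : j (IsLocalization.mk' _ x ⟨t, ht⟩) * j (algebraMap _ _ t) = j (algebraMap _ _ x) := by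
      rw [← map_mul, IsLocalization.mk'_spec]
    rw [ha, zero_mul, hj] at h3
    have h5 : x = 0 := (map_eq_zero_iff _ hinj).1 h3.symm
    rw [h5, IsLocalization.mk'_zero]
  have hr : ∀ b, ψ b ∈ j.range := by
    have h1 : (⊤ : Subalgebra k B) ≤ j.range.comap ψ := by
      rw [← hs, Algebra.adjoin_le_iff]
      intro b hb
      rw [SetLike.mem_coe, Subalgebra.mem_comap, hpq]
      have hqf : q b ∣ f := Finset.dvd_prod_of_mem q hb
      have hu : IsUnit (algebraMap (MvPolynomial σ k) (Localization.Away f) (q b)) :=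
        isUnit_of_dvd_unit (map_dvd _ hqf) (IsLocalization.Away.algebraMap_isUnit f)
      obtain ⟨v, hv⟩ := hu
      refine ⟨algebraMap _ _ (p b) * ((v⁻¹ : (Localization.Away f)ˣ) : Localization.Away f), ?_⟩
      change j _ = _
      rw [map_mul, hj, div_eq_mul_inv]
      congr 1
      apply eq_inv_of_mul_eq_one_left
      rw [← hj, ← hv, ← map_mul, Units.inv_mul, map_one]
    exact fun b => h1 Algebra.mem_top
  let e : Localization.Away f ≃ₐ[k] j.range := AlgEquiv.ofInjective j hjinj
  refine ⟨f, (e.symm : j.range →ₐ[k] _).comp (ψ.codRestrict j.range hr), j, hf, ?_⟩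
  apply AlgHom.ext
  intro b
  have h1 : (e (e.symm (ψ.codRestrict j.range hr b)) : Fr k σ) = ψ b := by
    rw [AlgEquiv.apply_symm_apply]
    rfl
  exact h1

/-- **A finitely generated algebra embedded in a field of rational functions is dominated by an open subscheme of an
affine space.** -/
theorem exists_dominant [Algebra.FiniteType k B] (h : URat k B) :
    ∃ (n : ℕ) (V : (AffineSpace (ULift.{u} (Fin n)) (Spec (CommRingCat.of k))).Opens)
      (φ : (V : Scheme.{u}) ⟶ Spec (CommRingCat.of B)),
      (V : Set ↥(AffineSpace (ULift.{u} (Fin n)) (Spec (CommRingCat.of k)))).Nonempty ∧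
      DenseRange φ.base ∧
      φ ≫ Spec.map (CommRingCat.ofHom (algebraMap k B)) =
        V.ι ≫ (AffineSpace (ULift.{u} (Fin n)) (Spec (CommRingCat.of k)) ↘ (Spec (CommRingCat.of k))) := by
  obtain ⟨n, ψ, hψ⟩ := h
  have he : Function.Injective (MvPolynomial.rename (R := k) (Equiv.ulift.{u}.symm : Fin n ≃ ULift.{u} (Fin n))) :=
    MvPolynomial.rename_injective _ (Equiv.injective _)
  let ψ' : B →ₐ[k] Fr k (ULift.{u} (Fin n)) := (frMap _ he).comp ψ
  have hψ' : Function.Injective ψ' := (frMap_injective _ he).comp hψ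
  obtain ⟨f, θ, j, hf, hj⟩ := exists_away ψ'
  have hθ : Function.Injective θ := by
    have h1 : Function.Injective (j.comp θ) := by rw [hj]; exact hψ'
    exact Function.Injective.of_comp h1
  let Q := MvPolynomial (ULift.{u} (Fin n)) k
  let Qf := Localization.Away f
  let u : Spec (CommRingCat.of Qf) ⟶ Spec (CommRingCat.of Q) := Spec.map (CommRingCat.ofHom (algebraMap Q Qf))
  have hu : IsOpenImmersion u := IsOpenImmersion.of_isLocalization f
  let j0 : Spec (CommRingCat.of Qf) ⟶ AffineSpace (ULift.{u} (Fin n)) (Spec (CommRingCat.of k)) :=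
    u ≫ (AffineSpace.SpecIso (ULift.{u} (Fin n)) (CommRingCat.of k)).inv
  have hj0 : IsOpenImmersion j0 := inferInstanceAs (IsOpenImmersion (u ≫ _))
  have hdom : IsDomain Qf := IsLocalization.isDomain_localization
    (powers_le_nonZeroDivisors_of_noZeroDivisors hf)
  refine ⟨n, j0.opensRange, j0.isoOpensRange.inv ≫ Spec.map (CommRingCat.ofHom θ.toRingHom), ?_, ?_, ?_⟩
  · have hne : Nonempty (Spec (CommRingCat.of Qf)) := inferInstanceAs (Nonempty (PrimeSpectrum Qf))
    obtain ⟨x⟩ := hne
    exact ⟨j0 x, x, rfl⟩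
  · have h1 : DenseRange (Spec.map (CommRingCat.ofHom θ.toRingHom)).base := by
      refine (PrimeSpectrum.denseRange_comap_iff_ker_le_nilRadical _).2 ?_
      have h2 : RingHom.ker θ.toRingHom = ⊥ := (RingHom.injective_iff_ker_eq_bot _).1 hθ
      have h3 : RingHom.ker (CommRingCat.ofHom θ.toRingHom).hom = ⊥ := h2
      rw [h3]
      exact bot_le
    have h4 : Function.Surjective j0.isoOpensRange.inv.base := j0.isoOpensRange.inv.surjective
    exact h1.comp h4.denseRange (Spec.map (CommRingCat.ofHom θ.toRingHom)).continuous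
  · have h1 : j0.opensRange.ι = j0.isoOpensRange.inv ≫ j0 := by
      rw [Iso.eq_inv_comp]
      exact j0.isoOpensRange_hom_ι
    rw [h1, Category.assoc, Category.assoc]
    congr 1
    rw [← Spec.map_comp, Category.assoc, AffineSpace.SpecIso_inv_over]
    change _ = Spec.map _ ≫ Spec.map _
    rw [← Spec.map_comp]
    congr 1
    ext x
    exact θ.commutes x

end K6.UniSch
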