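import Groth.Agent.SGA3x.K6.UniInf
import Groth.Agent.SGA3x.K6.UniSch

/-!
# Smooth connected affine groups over a perfect field are unirational
-/

set_option autoImplicit false

universe u

open CategoryTheory MonoidalCategory CartesianMonoidalCategory MonObj GrpObj AlgebraicGeometry
open Groth.Agent.Books.AffBridge Groth.Agent.Books.AffBridge2
open Groth.Agent.Books.AlgPtsSmooth

namespace K6.UniMain

open K6.UniRat K6.UniLeast

/-- **The coordinate ring embeds in a field of rational functions.** -/
theorem urat (k : Type u) [Field k] [PerfectField k] (B : Type u) [CommRing B] [HopfAlgebra k B]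
    [Algebra.Smooth k B] [ConnectedSpace (PrimeSpectrum B)]
    (G : Over (Spec (CommRingCat.of k))) [GrpObj G] [Smooth G.hom] [QuasiCompact G.hom]
    (e : G ≅ SpecOver k B) [IsMonHom e.hom] : URat k B := by
  obtain ⟨P, hP⟩ := exists_least (k := k) (B := B)
  have h0 : P = ⊥ := by
    rcases finite_or_infinite k with hk | hk
    · exact K6.UniFin.eq_bot hP
    · exact K6.UniInf.eq_bot hP G e
  obtain ⟨n, ψ, hψ⟩ := hP.inF
  refine ⟨n, ψ, ?_⟩
  rw [h0] at hψ
  exact (RingHom.injective_iff_ker_eq_bot ψ.toRingHom).2 hψ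

/-- **Unirationality.** -/
theorem main (k : Type u) [Field k] [PerfectField k]
    (G : Over (Spec (CommRingCat.of k))) [GrpObj G] [Smooth G.hom] [QuasiCompact G.hom] [IsAffine G.left]
    [ConnectedSpace ↥G.left] :
    ∃ (n : ℕ) (V : (AffineSpace (ULift.{u} (Fin n)) (Spec (CommRingCat.of k))).Opens) (φ : (V : Scheme.{u}) ⟶ G.left),
      (V : Set ↥(AffineSpace (ULift.{u} (Fin n)) (Spec (CommRingCat.of k)))).Nonempty ∧ DenseRange φ.base ∧
      φ ≫ G.hom = V.ι ≫ (AffineSpace (ULift.{u} (Fin n)) (Spec (CommRingCat.of k)) ↘ (Spec (CommRingCat.of k))) := by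
  obtain ⟨B, _, _, e, he⟩ := exists_hopf k G
  have hiso : IsIso e.inv.left := inferInstanceAs (IsIso ((Over.forget _).map e.inv))
  have hsm : Smooth (SpecOver k B).hom := by
    have : (SpecOver k B).hom = e.inv.left ≫ G.hom := (Over.w e.inv).symm
    rw [this]
    infer_instance
  have hsmB : Algebra.Smooth k B := (smooth_specOver_iff k B).1 hsm
  have hconn : ConnectedSpace (PrimeSpectrum B) := by
    have h1 : ConnectedSpace ↥(SpecOver k B).left :=
      (Scheme.homeoOfIso ((Over.forget _).mapIso e)).connectedSpace_iff.1 ‹_›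
    exact h1
  obtain ⟨n, V, φ, hV, hφ, hc⟩ := K6.UniSch.exists_dominant (urat k B G e)
  refine ⟨n, V, φ ≫ e.inv.left, hV, ?_, ?_⟩
  · have h1 : Function.Surjective e.inv.left.base := e.inv.left.surjective
    exact h1.denseRange.comp hφ e.inv.left.continuous
  · have h1 : e.inv.left ≫ G.hom = (SpecOver k B).hom := Over.w e.inv
    rw [Category.assoc]
    exact (congrArg (fun x => φ ≫ x) h1).trans hc

end K6.UniMain
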