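import Groth.Agent.SGA3x.K6.ConstRep
import Groth.Agent.SGA3x.K7.DSProp
import Groth.Agent.Sga3B.BorLoc613
import Groth.Agent.Sga3B.RepDescent9

/-!
# `Hom_{S-gr}(D(M), D(N))` is the constant scheme `Hom(N, M)_S`, for `N` finitely generated

* `exists_near_family`: a family of homomorphisms `D(M) → D(N)` parametrised by `T` is, near every point of `T`,
  given by a homomorphism `N → M`;
* `exists_representsHom`: the constant scheme `(N →+ M)_S` represents `Hom_{S-gr}(D(M), D(N))`.
-/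

set_option autoImplicit false

universe u

open CategoryTheory MonoidalCategory CartesianMonoidalCategory MonObj GrpObj AlgebraicGeometry Limits Opposite

namespace K6.HomDS

open Groth.Agent.Sga3B Groth.Agent.Sga3B.DSPts Groth.Agent.Sga3B.InfConj
  Groth.Agent.Sga3B.InfConjFam Groth.Agent.Sga3B.DSRigid TwC K6.ConstRep

variable {S : Scheme.{u}} {M N : Type} [AddCommGroup M] [AddCommGroup N]

/-- Near every point of the parameter scheme, a family of homomorphisms `D(M) → D(N)` comes from a homomorphism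
`N → M`. -/
theorem exists_near_family [Module.Finite ℤ N] {S' : Scheme.{u}} (x : S' ⟶ S)
    (a : Red.DS S M ⊗ Over.mk x ⟶ Red.DS S N) (ha : AutFam.IsHomFamily (Red.DS S M) (Red.DS S N) a) (s : S') :
    ∃ U : S'.Opens, s ∈ U ∧ ∃ φ : N →+ M, ∀ (T : Over S) (q : T ⟶ Red.DS S M) (t : T ⟶ Over.mk x),
      Set.range t.left ⊆ (U : Set S') → lift q t ≫ a = q ≫ Red.DSmap S φ := by
  let f : Red.DS S' M ⟶ Red.DS S' N := untr x (lift (tr x (𝟙 _)) (st x _) ≫ a)
  have hf : ∀ {T : Over S'} (q : T ⟶ Red.DS S' M), q ≫ f = untr x (lift (tr x q) (st x T) ≫ a) := by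
    intro T q
    rw [← untr_comp, comp_lift_assoc, ← tr_comp, ← st_comp, Category.comp_id]
  have hmon : IsMonHom f := isMonHom_of_mul _ fun T q q' => by
    rw [hf, hf, hf, tr_mul, ha, untr_mul]
  obtain ⟨U, hU, φ, hφ⟩ := BorLoc613.exists_near f s
  refine ⟨U, hU, φ, ?_⟩
  intro T q t ht
  let T' : Over S' := Over.mk t.left
  let e : T ⟶ (Over.map x).obj T' := Over.homMk (𝟙 _) (by
    change 𝟙 _ ≫ t.left ≫ x = T.hom
    rw [Category.id_comp]
    exact Over.w t)
  let q' : T' ⟶ Red.DS S' M := dsEquiv T' M (dsChar q : Multiplicative M →* Γ(T.left, ⊤))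
  have h1 : e ≫ tr x q' = q := by
    unfold tr
    rw [dsEquiv_naturality, dsChar_dsEquiv]
    refine Eq.trans ?_ (dsEquiv_dsChar q)
    congr 1
  have h2 : e ≫ st x T' = t := by
    apply Over.OverMorphism.ext
    exact Category.id_comp _
  have h3 : tr x (q' ≫ f) = lift (tr x q') (st x T') ≫ a := by rw [hf, tr_untr]
  have h4 : q' ≫ f = q' ≫ Red.DSmap S' φ := hφ T' q' ht
  rw [← h1, ← h2, ← comp_lift_assoc, ← h3, h4, tr_DSmap, Category.assoc]

theorem isMonHom_DSmap (S : Scheme.{u}) (φ : N →+ M) : IsMonHom (Red.DSmap S φ) :=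
  isMonHom_of_mul _ fun T q q' => by
    apply (dsEquiv _ N).symm.injective
    change dsChar _ = dsChar _
    rw [dsChar_mul, dsChar_DSmap, dsChar_DSmap, dsChar_DSmap, dsChar_mul]
    rfl

/-- The constant family attached to a homomorphism `N → M`. -/
noncomputable def cfam (S : Scheme.{u}) (φ : N →+ M) (T : Over S) : Red.DS S M ⊗ T ⟶ Red.DS S N :=
  fst _ _ ≫ Red.DSmap S φ

theorem lift_cfam (φ : N →+ M) {T X : Over S} (g : X ⟶ Red.DS S M) (t : X ⟶ T) :
    lift g t ≫ cfam S φ T = g ≫ Red.DSmap S φ := by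
  rw [cfam, lift_fst_assoc]

theorem isHomFamily_cfam (φ : N →+ M) (T : Over S) :
    AutFam.IsHomFamily (Red.DS S M) (Red.DS S N) (cfam S φ T) := by
  intro X g₁ g₂ t
  rw [lift_cfam, lift_cfam, lift_cfam]
  have := isMonHom_DSmap S φ
  exact MonObj.mul_comp _ _ _

theorem whisker_cfam (φ : N →+ M) {T T' : Over S} (f : T' ⟶ T) :
    (Red.DS S M ◁ f) ≫ cfam S φ T = cfam S φ T' := by
  rw [cfam, whiskerLeft_fst_assoc, cfam]

/-- `N →+ M` is small. -/
instance small_hom : Small.{u} (N →+ M) := inferInstance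

/-- A constant family determines the homomorphism over a nonempty base. -/
theorem cfam_injective {T : Over S} (hT : Nonempty T.left) {φ ψ : N →+ M} (h : cfam S φ T = cfam S ψ T) : φ = ψ := by
  obtain ⟨t⟩ := hT
  obtain ⟨R, v, hv, ht⟩ : ∃ (R : CommRingCat.{u}) (v : Spec R ⟶ T.left), IsOpenImmersion v ∧ t ∈ Set.range v := by
    obtain ⟨R, v, h1, h2, -⟩ := BorLoc613.exists_spec_nhd (⊤ : T.left.Opens) (s := t) trivial
    exact ⟨R, v, h1, h2⟩
  obtain ⟨r, -⟩ := ht
  have hR : Nontrivial R := by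
    rw [← PrimeSpectrum.nonempty_iff_nontrivial]
    exact ⟨r⟩
  let x : Spec (CommRingCat.of R) ⟶ S := v ≫ T.hom
  refine K7.DSProp.DSmap_injective (R := R) ?_
  have h1 : ∀ (X : Over (Spec (CommRingCat.of R))) (q : X ⟶ Red.DS (Spec (CommRingCat.of R)) M),
      q ≫ Red.DSmap _ φ = q ≫ Red.DSmap _ ψ := by
    intro X q
    let b : (Over.map x).obj X ⟶ T := Over.homMk (X.hom ≫ v) (Category.assoc _ _ _)
    have h2 : tr x q ≫ Red.DSmap S φ = tr x q ≫ Red.DSmap S ψ := by
      rw [← lift_cfam φ (tr x q) b, ← lift_cfam ψ (tr x q) b, h]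
    rw [← tr_DSmap, ← tr_DSmap] at h2
    apply (dsEquiv _ N).symm.injective
    change dsChar _ = dsChar _
    rw [← dsChar_tr x, ← dsChar_tr x, h2]
  have h3 := h1 _ (𝟙 _)
  rwa [Category.id_comp, Category.id_comp] at h3

/-- The universal family of a representing object of the functor of homomorphisms. -/
theorem exists_representsHom_of_representableBy {G H : Over S} [GrpObj G] [GrpObj H] {A : Over S}
    (r : (RepDescent.homF G H).RepresentableBy A) :
    ∃ υ : G ⊗ A ⟶ H, AutFam.RepresentsHom G H A υ ∧ ∀ (T : Over S) (a : T ⟶ A),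
      (r.homEquiv a : {y : (RepDescent.famF G H).obj (op T) // RepDescent.homP G H T y}).1 = (G ◁ a) ≫ υ := by
  let υ : {y : (RepDescent.famF G H).obj (op A) // RepDescent.homP G H A y} := r.homEquiv (𝟙 A)
  have h0 : ∀ (T : Over S) (a : T ⟶ A),
      (r.homEquiv a : {y : (RepDescent.famF G H).obj (op T) // RepDescent.homP G H T y}).1 = (G ◁ a) ≫ υ.1 := by
    intro T a
    rw [r.homEquiv_eq a]
    rfl
  refine ⟨υ.1, ⟨υ.2, fun T φ hφ => ?_⟩, h0⟩
  let φ' : {y : (RepDescent.famF G H).obj (op T) // RepDescent.homP G H T y} := ⟨φ, hφ⟩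
  refine ⟨r.homEquiv.symm φ', ?_, ?_⟩
  · dsimp only
    rw [← h0, Equiv.apply_symm_apply]
  · intro b hb
    rw [Equiv.eq_symm_apply]
    apply Subtype.ext
    rw [h0]
    exact hb

/-- **`Hom_{S-gr}(D(M), D(N))` is represented by the constant scheme `Hom(N, M)_S`** for `N` finitely generated, the
universal family being `D(φ)` on the copy of `S` of index `φ`. -/
theorem exists_representsHom (S : Scheme.{u}) (M N : Type) [AddCommGroup M] [AddCommGroup N] [Module.Finite ℤ N] :
    ∃ υ : Red.DS S M ⊗ const S (N →+ M) ⟶ Red.DS S N,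
      AutFam.RepresentsHom (Red.DS S M) (Red.DS S N) (const S (N →+ M)) υ ∧
      ∀ (φ : N →+ M) (T : Over S), (Red.DS S M ◁ ptT (N →+ M) φ T) ≫ υ = cfam S φ T := by
  let F : (Over S)ᵒᵖ ⥤ Type u := RepDescent.homF (Red.DS S M) (Red.DS S N)
  let ξ : ∀ (_ : N →+ M) (T : Over S), F.obj (op T) := fun φ T =>
    (⟨cfam S φ T, isHomFamily_cfam φ T⟩ :
      {y : (RepDescent.famF (Red.DS S M) (Red.DS S N)).obj (op T) // RepDescent.homP (Red.DS S M) (Red.DS S N) T y})
  obtain ⟨r, hr⟩ := exists_representableBy (F := F) (RepDescent.isEtSheaf_homF _ _) ξ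
    (fun φ T T' f => Subtype.ext (whisker_cfam φ f)) (by
      intro T y t
      let y' : {y : (RepDescent.famF (Red.DS S M) (Red.DS S N)).obj (op T) //
        RepDescent.homP (Red.DS S M) (Red.DS S N) T y} := y
      obtain ⟨U, hU, φ, hφ⟩ := exists_near_family T.hom y'.1 y'.2 t
      refine ⟨U, φ, hU, Subtype.ext ?_⟩
      change (Red.DS S M ◁ inc T U) ≫ y'.1 = cfam S φ (opn T U)
      have h1 : Red.DS S M ◁ inc T U = lift (fst (Red.DS S M) (opn T U)) (snd (Red.DS S M) (opn T U) ≫ inc T U) := by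
        apply CartesianMonoidalCategory.hom_ext <;> simp
      rw [h1, cfam]
      refine hφ _ _ _ ?_
      rintro _ ⟨z, rfl⟩
      change ((snd (Red.DS S M) (opn T U)).left ≫ U.ι) z ∈ U
      rw [Scheme.Hom.comp_apply]
      exact ((snd (Red.DS S M) (opn T U)).left z).2) (by
      intro T i j hT hij
      exact cfam_injective hT (congrArg Subtype.val hij))
  obtain ⟨υ, hυ, hυ'⟩ := exists_representsHom_of_representableBy r
  refine ⟨υ, hυ, fun φ T => ?_⟩
  rw [← hυ', hr]

end K6.HomDS
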