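import Groth.Agent.SGA3x.K6.Const
import Groth.Agent.Sga3B.RepDescent7

/-!
# A criterion for a functor to be represented by a constant scheme

`F` an etale sheaf on the category of `S`-schemes, with sections `ξ i` (`i : I`) over every `T`, compatible with
pullback, such that every section of `F` is locally one of them and such that `ξ i = ξ j` over a nonempty `T` only if
`i = j`: then `F` is represented by the constant scheme `I_S` (`exists_representableBy`).
-/

set_option autoImplicit false
set_option backward.isDefEq.respectTransparency false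

universe u v

open CategoryTheory MonoidalCategory CartesianMonoidalCategory MonObj GrpObj AlgebraicGeometry Limits Opposite

namespace K6.ConstRep

open Groth.Agent.Sga3B.RepDescent TwC

variable {S : Scheme.{u}}

/-- An open subscheme of an `S`-scheme, as an `S`-scheme. -/
noncomputable abbrev opn (T : Over S) (U : T.left.Opens) : Over S := Over.mk (U.ι ≫ T.hom)

/-- The inclusion of an open subscheme, as an `S`-morphism. -/
noncomputable def inc (T : Over S) (U : T.left.Opens) : opn T U ⟶ T := Over.homMk U.ι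

@[simp]
theorem inc_left (T : Over S) (U : T.left.Opens) : (inc T U).left = U.ι := rfl

theorem etale_inc (T : Over S) (U : T.left.Opens) : Etale (inc T U).left :=
  inferInstanceAs (Etale U.ι)

/-- Restriction of an inclusion. -/
noncomputable def incLE (T : Over S) {W U : T.left.Opens} (h : W ≤ U) : opn T W ⟶ opn T U :=
  Over.homMk (T.left.homOfLE h) (by
    change T.left.homOfLE h ≫ U.ι ≫ T.hom = W.ι ≫ T.hom
    rw [Scheme.homOfLE_ι_assoc])

@[reassoc]
theorem incLE_inc (T : Over S) {W U : T.left.Opens} (h : W ≤ U) : incLE T h ≫ inc T U = inc T W := by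
  apply Over.OverMorphism.ext
  exact Scheme.homOfLE_ι _ h

/-- Sections of a sheaf over the empty scheme. -/
theorem subsingleton_of_isEmpty {F : (Over S)ᵒᵖ ⥤ Type u} (hF : IsEtSheaf F) (T : Over S) [IsEmpty T.left]
    (a b : F.obj (op T)) : a = b := by
  obtain ⟨y, -, hy⟩ := @hF T PEmpty (fun i => i.elim) (fun i => i.elim) (fun i => i.elim)
    (fun t => isEmptyElim t) (fun i => i.elim) (fun i => i.elim)
  rw [hy a fun i => i.elim, hy b fun i => i.elim]

/-- Two sections which agree locally are equal. -/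
theorem ext_of_opens {F : (Over S)ᵒᵖ ⥤ Type u} (hF : IsEtSheaf F) {T : Over S} (a b : F.obj (op T))
    (h : ∀ t : T.left, ∃ U : T.left.Opens, t ∈ U ∧ F.map (inc T U).op a = F.map (inc T U).op b) : a = b := by
  choose U hU h using h
  obtain ⟨y, hy, hy'⟩ := @hF T T.left (fun t => opn T (U t)) (fun t => inc T (U t))
    (fun t => etale_inc T (U t)) (fun t => ⟨t, ⟨t, hU t⟩, rfl⟩)
    (fun t => F.map (inc T (U t)).op a)
    (fun i j R p q hpq => by
      rw [← Functor.map_comp_apply, ← Functor.map_comp_apply, ← op_comp, ← op_comp, hpq])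
  rw [hy' a fun i => rfl, hy' b fun i => (h i).symm]

/-- Gluing sections over an open cover which agree over nonempty intersections. -/
theorem exists_glue_of_opens {F : (Over S)ᵒᵖ ⥤ Type u} (hF : IsEtSheaf F) {T : Over S} (U : T.left → T.left.Opens)
    (hU : ∀ t, t ∈ U t) (x : ∀ t, F.obj (op (opn T (U t))))
    (h : ∀ (s t : T.left) (R : Over S) (p : R ⟶ opn T (U s)) (q : R ⟶ opn T (U t)), p ≫ inc T (U s) = q ≫ inc T (U t) →
      Nonempty R.left → F.map p.op (x s) = F.map q.op (x t)) :
    ∃ y : F.obj (op T), ∀ t, F.map (inc T (U t)).op y = x t := by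
  obtain ⟨y, hy, -⟩ := @hF T T.left (fun t => opn T (U t)) (fun t => inc T (U t))
    (fun t => etale_inc T (U t)) (fun t => ⟨t, ⟨t, hU t⟩, rfl⟩) x
    (fun i j R p q hpq => by
      by_cases hR : Nonempty R.left
      · exact h i j R p q hpq hR
      · rw [not_nonempty_iff] at hR
        exact subsingleton_of_isEmpty hF R _ _)
  exact ⟨y, hy⟩

section

/-- The point of index `i` of the constant scheme, with values in `T`. -/
noncomputable def ptT (I : Type v) [Small.{u} I] (i : I) (T : Over S) : T ⟶ const S I :=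
  Over.homMk (T.hom ≫ Sigma.ι (fun _ : I => S) i) (by
    change (T.hom ≫ Sigma.ι (fun _ : I => S) i) ≫ Sigma.desc (fun _ => 𝟙 S) = T.hom
    rw [Category.assoc, Sigma.ι_desc, Category.comp_id])

variable {I : Type v} [Small.{u} I]

theorem comp_ptT (i : I) {T T' : Over S} (f : T' ⟶ T) : f ≫ ptT I i T = ptT I i T' := by
  apply Over.OverMorphism.ext
  change f.left ≫ T.hom ≫ Sigma.ι (fun _ : I => S) i = T'.hom ≫ Sigma.ι (fun _ : I => S) i
  rw [← Category.assoc, Over.w f]

theorem ptT_unit (i : I) : ptT I i (𝟙_ (Over S)) = pt S I i := by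
  apply Over.OverMorphism.ext
  exact Category.id_comp _

/-- A morphism to a constant scheme is locally one of the constant points. -/
theorem exists_eq_ptT {T : Over S} (a : T ⟶ const S I) (t : T.left) :
    ∃ (U : T.left.Opens) (i : I), t ∈ U ∧ inc T U ≫ a = ptT I i _ := by
  obtain ⟨i, x, hx⟩ := K6.Const.exists_ι (S := S) I (a.left t)
  let V : (∐ fun _ : I => S : Scheme.{u}).Opens := (Sigma.ι (fun _ : I => S) i).opensRange
  let U : T.left.Opens := a.left ⁻¹ᵁ V
  have htU : t ∈ U := ⟨x, hx⟩
  refine ⟨U, i, htU, ?_⟩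
  have hle : Set.range (U.ι ≫ a.left) ⊆ Set.range (Sigma.ι (fun _ : I => S) i) := by
    rintro _ ⟨z, rfl⟩
    exact z.2
  let l : (U : Scheme.{u}) ⟶ S := IsOpenImmersion.lift (Sigma.ι (fun _ : I => S) i) (U.ι ≫ a.left) hle
  have hl : l ≫ Sigma.ι (fun _ : I => S) i = U.ι ≫ a.left := IsOpenImmersion.lift_fac _ _ _
  have hl' : l = U.ι ≫ T.hom := by
    have h1 : a.left ≫ Sigma.desc (fun _ : I => 𝟙 S) = T.hom := Over.w a
    rw [← h1, ← Category.assoc, ← hl, Category.assoc, Sigma.ι_desc, Category.comp_id]
  apply Over.OverMorphism.ext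
  change U.ι ≫ a.left = (U.ι ≫ T.hom) ≫ Sigma.ι (fun _ : I => S) i
  rw [← hl, hl']

/-- The constant points of different indices are different. -/
theorem ptT_injective {T : Over S} (hT : Nonempty T.left) {i j : I} (h : ptT I i T = ptT I j T) : i = j := by
  obtain ⟨t⟩ := hT
  have h1 : T.hom ≫ Sigma.ι (fun _ : I => S) i = T.hom ≫ Sigma.ι (fun _ : I => S) j := congrArg (·.left) h
  have h2 : Sigma.ι (fun _ : I => S) i (T.hom t) = Sigma.ι (fun _ : I => S) j (T.hom t) := by
    rw [← Scheme.Hom.comp_apply, h1, Scheme.Hom.comp_apply]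
  rw [sigmaι_eq_iff] at h2
  exact congrArg Sigma.fst h2

variable {F : (Over S)ᵒᵖ ⥤ Type u} (hF : IsEtSheaf F)
  (ξ : ∀ (_ : I) (T : Over S), F.obj (op T))
  (hξ : ∀ (i : I) {T T' : Over S} (f : T' ⟶ T), F.map f.op (ξ i T) = ξ i T')

include hF hξ in
/-- The universal section. -/
theorem exists_univ : ∃ υ : F.obj (op (const S I)), ∀ (i : I) (T : Over S), F.map (ptT I i T).op υ = ξ i T := by
  classical
  let e : Shrink.{u} I ≃ I := (equivShrink I).symm
  let S₀ : Over S := Over.mk (𝟙 S)
  obtain ⟨υ, hυ, -⟩ := @hF (const S I) (Shrink.{u} I) (fun _ => S₀) (fun i => ptT I (e i) S₀)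
    (fun i => by
      change Etale (𝟙 S ≫ Sigma.ι (fun _ : I => S) (e i))
      infer_instance)
    (fun t => by
      obtain ⟨i, x, hx⟩ := K6.Const.exists_ι (S := S) I t
      refine ⟨e.symm i, x, ?_⟩
      change (𝟙 S ≫ Sigma.ι (fun _ : I => S) (e (e.symm i))) x = t
      rw [Category.id_comp, Equiv.apply_symm_apply, hx])
    (fun i => ξ (e i) S₀)
    (fun i j R a b hab => by
      by_cases hR : Nonempty R.left
      · rw [comp_ptT, comp_ptT] at hab
        have h1 := ptT_injective hR hab
        rw [hξ, hξ, h1]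
      · rw [not_nonempty_iff] at hR
        exact subsingleton_of_isEmpty hF R _ _)
  refine ⟨υ, fun i T => ?_⟩
  have h1 : (Over.mkIdTerminal.from T : T ⟶ S₀) ≫ ptT I (e (e.symm i)) S₀ = ptT I i T := by
    rw [comp_ptT, Equiv.apply_symm_apply]
  have h2 := hυ (e.symm i)
  rw [← h1, op_comp, Functor.map_comp_apply, h2, hξ, Equiv.apply_symm_apply]

include hF hξ in
/-- **Criterion for representability by a constant scheme.** -/
theorem exists_representableBy (hloc : ∀ (T : Over S) (y : F.obj (op T)) (t : T.left),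
      ∃ (U : T.left.Opens) (i : I), t ∈ U ∧ F.map (inc T U).op y = ξ i _)
    (hinj : ∀ (T : Over S) (i j : I), Nonempty T.left → ξ i T = ξ j T → i = j) :
    ∃ r : F.RepresentableBy (const S I), ∀ (i : I) (T : Over S), r.homEquiv (ptT I i T) = ξ i T := by
  obtain ⟨υ, hυ⟩ := exists_univ hF ξ hξ
  have hbij : ∀ T : Over S, Function.Bijective fun a : T ⟶ const S I => F.map a.op υ := by
    intro T
    constructor
    · intro a b hab
      have hab' : F.map a.op υ = F.map b.op υ := hab
      have hY : IsEtSheaf (yoneda.obj (const S I)) := isEtSheaf_yoneda _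
      refine ext_of_opens hY (T := T) a b fun t => ?_
      obtain ⟨U, i, hU, hi⟩ := exists_eq_ptT a t
      obtain ⟨V, j, hV, hj⟩ := exists_eq_ptT b t
      let W : T.left.Opens := U ⊓ V
      have hW : t ∈ W := ⟨hU, hV⟩
      have hi' : inc T W ≫ a = ptT I i _ := by
        rw [← incLE_inc T (inf_le_left : W ≤ U), Category.assoc, hi, comp_ptT]
      have hj' : inc T W ≫ b = ptT I j _ := by
        rw [← incLE_inc T (inf_le_right : W ≤ V), Category.assoc, hj, comp_ptT]
      refine ⟨W, hW, ?_⟩
      change inc T W ≫ a = inc T W ≫ b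
      have h1 : ξ i (opn T W) = ξ j _ := by
        rw [← hυ, ← hυ, ← hi', ← hj', op_comp, op_comp, Functor.map_comp_apply, Functor.map_comp_apply, hab']
      have hne : Nonempty (opn T W).left := ⟨(⟨t, hW⟩ : W)⟩
      have h2 := hinj _ i j hne h1
      rw [hi', hj', h2]
    · intro y
      choose U i hU hy using hloc T y
      obtain ⟨a, ha⟩ := exists_glue_of_opens (isEtSheaf_yoneda (const S I)) U hU (fun t => ptT I (i t) _)
        (fun s t R p q hpq hR => by
          change p ≫ ptT I (i s) _ = q ≫ ptT I (i t) _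
          rw [comp_ptT, comp_ptT]
          have h1 : ξ (i s) R = ξ (i t) R := by
            rw [← hξ (i s) p, ← hξ (i t) q, ← hy, ← hy, ← Functor.map_comp_apply, ← Functor.map_comp_apply,
              ← op_comp, ← op_comp, hpq]
          rw [hinj R _ _ hR h1])
      have ha' : ∀ t, inc T (U t) ≫ a = ptT I (i t) _ := ha
      refine ⟨a, ext_of_opens hF _ _ fun t => ⟨U t, hU t, ?_⟩⟩
      rw [hy, ← Functor.map_comp_apply, ← op_comp, ha', hυ]
  refine ⟨{ homEquiv := fun {T} => Equiv.ofBijective _ (hbij T)
            homEquiv_comp := fun f g => ?_ }, fun i T => hυ i T⟩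
  change F.map (f ≫ g).op υ = F.map f.op (F.map g.op υ)
  rw [op_comp, Functor.map_comp_apply]

end

end K6.ConstRep
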