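import Groth.Agent.SGA3x.K6.DualMT

/-!
# The dual of a constant group: `Hom_{S-gr}(M_S, G_m) = D(M)`

`G` an `S`-group which is the constant group `M_S` through `e : G ≅ TwC.const S M` (`TwC.IsConstGrp`).

* `jT`: the points of `G` of index `m`; `existsUnique_hom`: morphisms `G ⊗ T ⟶ Y` are families of morphisms
  `T ⟶ Y` indexed by `M`;
* `exists_dual_const`: for `M` commutative, `D(M)` represents `Hom_{S-gr}(G, G_m)`, with a bilinear universal family.
-/

set_option autoImplicit false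

universe u v w

open CategoryTheory MonoidalCategory CartesianMonoidalCategory MonObj GrpObj AlgebraicGeometry Limits Opposite

namespace K6.DualConst

open Groth.Agent.Sga3B Groth.Agent.Sga3B.DSPts Groth.Agent.Sga3B.RepDescent TwC K6.ConstRep K6.HomGrp

variable {S : Scheme.{u}} {M : Type v} [Small.{u} M] {G : Over S} (e : G ≅ const S M)

/-- The point of index `m` of `G`, with values in `T`. -/
noncomputable def jT (m : M) (T : Over S) : T ⟶ G := ptT M m T ≫ e.inv

theorem comp_jT (m : M) {T T' : Over S} (f : T' ⟶ T) : f ≫ jT e m T = jT e m T' := by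
  rw [jT, ← Category.assoc, comp_ptT]
  rfl

theorem jT_injective {T : Over S} (hT : Nonempty T.left) {m n : M} (h : jT e m T = jT e n T) : m = n :=
  ptT_injective hT ((cancel_mono e.inv).mp h)

theorem exists_eq_jT {T : Over S} (a : T ⟶ G) (t : T.left) :
    ∃ (U : T.left.Opens) (m : M), t ∈ U ∧ inc T U ≫ a = jT e m _ := by
  obtain ⟨U, m, hU, h⟩ := exists_eq_ptT (a ≫ e.hom) t
  refine ⟨U, m, hU, ?_⟩
  rw [jT, ← h]
  simp

theorem jT_mul [Group M] [GrpObj G] (he : IsConstGrp M G e) (m n : M) (T : Over S) :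
    jT e m T * jT e n T = jT e (m * n) T := by
  have h1 : ∀ k : M, jT e k T = toUnit T ≫ pt S M k ≫ e.inv := fun k => by
    rw [← ptT_unit, ← Category.assoc, comp_ptT]
    rfl
  rw [h1, h1, h1, ← MonObj.comp_mul, he]

include e in
/-- `G` is étale over the base. -/
theorem etale_of_iso : Etale G.hom := by
  have h1 : G.hom = e.hom.left ≫ (const S M).hom := (Over.w e.hom).symm
  have h2 : IsIso e.hom.left := ((Over.forget _).mapIso e).isIso_hom
  rw [h1]
  infer_instance

/-- The inclusion of the copy of index `m` of `T` in `G ⊗ T`. -/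
noncomputable def jj (m : M) (T : Over S) : T ⟶ G ⊗ T := lift (jT e m T) (𝟙 T)

theorem comp_jj (m : M) {T X : Over S} (t : X ⟶ T) : t ≫ jj e m T = lift (jT e m X) t := by
  rw [jj, comp_lift, comp_jT, Category.comp_id]

theorem etale_jj (m : M) (T : Over S) : Etale (jj e m T).left := by
  have h0 : Etale G.hom := etale_of_iso e
  have h1 : Etale (snd G T).left := by
    change Etale (pullback.snd G.hom T.hom)
    infer_instance
  have h2 : (jj e m T).left ≫ (snd G T).left = 𝟙 _ := by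
    rw [← Over.comp_left, jj, lift_snd]
    rfl
  have h3 : Etale ((jj e m T).left ≫ (snd G T).left) := by
    rw [h2]
    infer_instance
  exact Etale.of_comp (jj e m T).left (snd G T).left

theorem exists_jj (T : Over S) (p : (G ⊗ T).left) : ∃ (m : M) (t : T.left), (jj e m T).left t = p := by
  obtain ⟨U, m, hU, h⟩ := exists_eq_jT e (fst G T) p
  have h1 : inc (G ⊗ T) U = (inc (G ⊗ T) U ≫ snd G T) ≫ jj e m T := by
    rw [comp_jj, ← h, ← comp_lift, lift_fst_snd, Category.comp_id]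
  refine ⟨m, (inc (G ⊗ T) U ≫ snd G T).left ⟨p, hU⟩, ?_⟩
  have h2 : (inc (G ⊗ T) U).left = (inc (G ⊗ T) U ≫ snd G T).left ≫ (jj e m T).left := congrArg (·.left) h1
  rw [← Scheme.Hom.comp_apply, ← h2]
  rfl

/-- Morphisms `G ⊗ T ⟶ Y` are families of morphisms `T ⟶ Y` indexed by `M`. -/
theorem existsUnique_hom (T Y : Over S) (y : M → (T ⟶ Y)) : ∃! φ : G ⊗ T ⟶ Y, ∀ m, jj e m T ≫ φ = y m := by
  let ε : Shrink.{u} M ≃ M := (equivShrink M).symm
  obtain ⟨φ, h1, h2⟩ := @isEtSheaf_yoneda _ Y (G ⊗ T) (Shrink.{u} M) (fun _ => T) (fun i => jj e (ε i) T)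
    (fun i => etale_jj e _ T) (fun p => by
      obtain ⟨m, t, ht⟩ := exists_jj e T p
      refine ⟨ε.symm m, t, ?_⟩
      rw [Equiv.apply_symm_apply]
      exact ht) (fun i => y (ε i)) (by
      intro i j R a b hab
      have h3 : a = b := by
        have := congrArg (· ≫ snd G T) hab
        simpa [jj] using this
      subst h3
      rw [comp_jj, comp_jj] at hab
      by_cases hR : Nonempty R.left
      · have h4 := jT_injective e hR (by simpa using congrArg (· ≫ fst G T) hab : jT e (ε i) R = jT e (ε j) R)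
        change a ≫ y (ε i) = a ≫ y (ε j)
        rw [h4]
      · rw [not_nonempty_iff] at hR
        exact subsingleton_of_isEmpty (isEtSheaf_yoneda Y) R _ _)
  refine ⟨φ, fun m => ?_, fun ψ hψ => h2 ψ fun i => hψ (ε i)⟩
  have h3 := h1 (ε.symm m)
  rw [Equiv.apply_symm_apply] at h3
  exact h3

/-- Two morphisms from `G ⊗ T` which agree on the copies of `T` are equal. -/
theorem hom_ext {T Y : Over S} {φ ψ : G ⊗ T ⟶ Y} (h : ∀ m, jj e m T ≫ φ = jj e m T ≫ ψ) : φ = ψ :=
  (existsUnique_hom e T Y fun m => jj e m T ≫ ψ).unique h fun _ => rfl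

section dual

variable {S : Scheme.{u}} {M : Type} [CommGroup M] {G : Over S} [GrpObj G] (e : G ≅ const S M)

/-- The character of `D(M)` given by `m`. -/
noncomputable def chr (S : Scheme.{u}) (m : M) : Red.DS S (Additive M) ⟶ Red.DS S ℤ :=
  Red.DSmap S (zmultiplesHom (Additive M) (Additive.ofMul m))

theorem dsChar_chr {T : Over S} (m : M) (t : T ⟶ Red.DS S (Additive M)) (k : ℤ) :
    dsChar (t ≫ chr S m) (Multiplicative.ofAdd k) = dsChar t (Multiplicative.ofAdd (Additive.ofMul (m ^ k))) := by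
  rw [chr, dsChar_DSmap]
  rfl

theorem eq_of_dsChar_one {T : Over S} {x y : T ⟶ Red.DS S ℤ}
    (h : dsChar x (Multiplicative.ofAdd 1) = dsChar y (Multiplicative.ofAdd 1)) : x = y := by
  apply (dsEquiv T ℤ).symm.injective
  change dsChar x = dsChar y
  exact MonoidHom.ext_mint h

theorem chr_mul {T : Over S} (m n : M) (t : T ⟶ Red.DS S (Additive M)) :
    t ≫ chr S (m * n) = (t ≫ chr S m) * (t ≫ chr S n) := by
  apply eq_of_dsChar_one
  rw [dsChar_mul, MonoidHom.mul_apply, dsChar_chr, dsChar_chr, dsChar_chr, zpow_one, zpow_one, zpow_one, ← map_mul]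
  rfl

theorem mul_chr {T : Over S} (m : M) (a b : T ⟶ Red.DS S (Additive M)) :
    (a * b) ≫ chr S m = (a ≫ chr S m) * (b ≫ chr S m) := by
  apply eq_of_dsChar_one
  rw [dsChar_mul, MonoidHom.mul_apply, dsChar_chr, dsChar_chr, dsChar_chr, dsChar_mul, MonoidHom.mul_apply]

omit [GrpObj G] in
/-- The universal family of characters of `M_S`. -/
theorem exists_univ : ∃ υ : G ⊗ Red.DS S (Additive M) ⟶ Red.DS S ℤ,
    ∀ (m : M) (T : Over S) (t : T ⟶ Red.DS S (Additive M)), lift (jT e m T) t ≫ υ = t ≫ chr S m := by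
  obtain ⟨υ, hυ, -⟩ := existsUnique_hom e (Red.DS S (Additive M)) (Red.DS S ℤ) fun m => chr S m
  refine ⟨υ, fun m T t => ?_⟩
  rw [← hυ, ← Category.assoc, comp_jj]

variable {e} (he : IsConstGrp M G e) {υ : G ⊗ Red.DS S (Additive M) ⟶ Red.DS S ℤ}
  (hυ : ∀ (m : M) (T : Over S) (t : T ⟶ Red.DS S (Additive M)), lift (jT e m T) t ≫ υ = t ≫ chr S m)

include he hυ in
theorem isHomFamily_univ : AutFam.IsHomFamily G (Red.DS S ℤ) υ := by
  intro X g₁ g₂ t
  refine ext_of_opens (isEtSheaf_yoneda (Red.DS S ℤ)) _ _ fun x => ?_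
  obtain ⟨U₁, m₁, hU₁, h₁⟩ := exists_eq_jT e g₁ x
  obtain ⟨U₂, m₂, hU₂, h₂⟩ := exists_eq_jT e g₂ x
  let W := U₁ ⊓ U₂
  have h₁' : inc X W ≫ g₁ = jT e m₁ _ := by
    rw [← incLE_inc X (inf_le_left : W ≤ U₁), Category.assoc, h₁, comp_jT]
  have h₂' : inc X W ≫ g₂ = jT e m₂ _ := by
    rw [← incLE_inc X (inf_le_right : W ≤ U₂), Category.assoc, h₂, comp_jT]
  refine ⟨W, ⟨hU₁, hU₂⟩, ?_⟩
  change inc X W ≫ lift (g₁ * g₂) t ≫ υ = inc X W ≫ ((lift g₁ t ≫ υ) * (lift g₂ t ≫ υ))
  rw [MonObj.comp_mul, ← Category.assoc, ← Category.assoc, ← Category.assoc, comp_lift, comp_lift, comp_lift,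
    MonObj.comp_mul, h₁', h₂', jT_mul e he, hυ, hυ, hυ, chr_mul]

omit [GrpObj G] in
include hυ in
theorem isBil_univ : IsBil υ := by
  intro X g a b
  refine ext_of_opens (isEtSheaf_yoneda (Red.DS S ℤ)) _ _ fun x => ?_
  obtain ⟨U, m, hU, h⟩ := exists_eq_jT e g x
  refine ⟨U, hU, ?_⟩
  change inc X U ≫ lift g (a * b) ≫ υ = inc X U ≫ ((lift g a ≫ υ) * (lift g b ≫ υ))
  rw [MonObj.comp_mul, ← Category.assoc, ← Category.assoc, ← Category.assoc, comp_lift, comp_lift, comp_lift, h,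
    MonObj.comp_mul, hυ, hυ, hυ, mul_chr]

include he hυ in
theorem representsHom_univ : AutFam.RepresentsHom G (Red.DS S ℤ) (Red.DS S (Additive M)) υ := by
  refine ⟨isHomFamily_univ he hυ, fun T φ hφ => ?_⟩
  have hw : ∀ (t : T ⟶ Red.DS S (Additive M)) (m : M), jj e m T ≫ (G ◁ t) ≫ υ = t ≫ chr S m := by
    intro t m
    rw [← hυ, ← Category.assoc, jj, lift_whiskerLeft, Category.id_comp]
  have hmul : ∀ m n : M, jj e (m * n) T ≫ φ = (jj e m T ≫ φ) * (jj e n T ≫ φ) := by
    intro m n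
    rw [jj, ← jT_mul e he, hφ]
    rfl
  let Y : M →* (T ⟶ Red.DS S ℤ) := MonoidHom.mk' (fun m => jj e m T ≫ φ) hmul
  let χ₀ : M →* Γ(T.left, ⊤) :=
    (MonoidHom.eval (Multiplicative.ofAdd (1 : ℤ))).comp ((dsEquiv T ℤ).symm.toMonoidHom.comp Y)
  let χ : Multiplicative (Additive M) →* Γ(T.left, ⊤) :=
    { toFun := fun m => χ₀ m.toAdd.toMul
      map_one' := χ₀.map_one
      map_mul' := fun a b => χ₀.map_mul _ _ }
  have hχ : ∀ m : M, χ (Multiplicative.ofAdd (Additive.ofMul m)) = dsChar (jj e m T ≫ φ) (Multiplicative.ofAdd 1) :=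
    fun m => rfl
  refine ⟨dsEquiv T (Additive M) χ, ?_, ?_⟩
  · refine hom_ext e fun m => ?_
    rw [hw]
    apply eq_of_dsChar_one
    rw [dsChar_chr, zpow_one, ← hχ, dsChar_dsEquiv]
  · intro t ht
    apply (dsEquiv T (Additive M)).symm.injective
    rw [MulEquiv.symm_apply_apply]
    change dsChar t = χ
    refine MonoidHom.ext fun m => ?_
    have h1 := dsChar_chr m.toAdd.toMul t 1
    rw [← hw, ht, zpow_one] at h1
    exact h1.symm

include he in
/-- **The dual of a constant commutative group.** -/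
theorem exists_dual_const : ∃ υ : G ⊗ Red.DS S (Additive M) ⟶ Red.DS S ℤ,
    AutFam.RepresentsHom G (Red.DS S ℤ) (Red.DS S (Additive M)) υ ∧ IsBil υ := by
  obtain ⟨υ, hυ⟩ := exists_univ (M := M) e
  exact ⟨υ, representsHom_univ he hυ, isBil_univ hυ⟩

end dual

end K6.DualConst
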