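import Groth.Agent.SGA3x.K6.HomDS
import Groth.Agent.Sga3B.HomFun898
import Groth.Agent.RedSub.H668.InnerRep
import Mathlib.CategoryTheory.Monoidal.Cartesian.Grp

/-!
# The group structure of `Hom_{S-gr}(H, G)`, `G` commutative

* `exists_grpObj`: a representing object `A` of `Hom_{S-gr}(H, G)` has a group structure for which the universal
  family is multiplicative in `A` (`IsBil`);
* `exists_bc`: base change of a bilinear universal family;
* `IsBil.of_iso`: transport along isomorphisms of `H` and `G`.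
-/

set_option autoImplicit false

universe u

open CategoryTheory MonoidalCategory CartesianMonoidalCategory MonObj GrpObj AlgebraicGeometry Limits Opposite

namespace K6.HomGrp

open Groth.Agent.Sga3B Groth.Agent.Sga3B.BcPts Groth.Agent.Sga3B.RepDescent

variable {S : Scheme.{u}} {H G : Over S} [GrpObj H] [GrpObj G]

/-- The family `υ` is multiplicative in the parameter. -/
def IsBil {A : Over S} [GrpObj A] (υ : H ⊗ A ⟶ G) : Prop :=
  ∀ (X : Over S) (h : X ⟶ H) (a b : X ⟶ A), lift h (a * b) ≫ υ = (lift h a ≫ υ) * (lift h b ≫ υ)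

omit [GrpObj H] in
theorem whisker_mul {A : Over S} [GrpObj A] {υ : H ⊗ A ⟶ G} (hυ : IsBil υ) {T : Over S} (a b : T ⟶ A) :
    (H ◁ (a * b)) ≫ υ = ((H ◁ a) ≫ υ) * ((H ◁ b) ≫ υ) := by
  have h1 : ∀ c : T ⟶ A, H ◁ c = lift (fst H T) (snd H T ≫ c) := fun c => by
    apply CartesianMonoidalCategory.hom_ext <;> simp
  rw [h1, h1, h1, MonObj.comp_mul, hυ]

omit [GrpObj H] in
/-- Transport of bilinearity. -/
theorem IsBil.of_iso {A : Over S} [GrpObj A] {υ : H ⊗ A ⟶ G} (hυ : IsBil υ) {H' G' : Over S} [GrpObj G']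
    (e : H' ⟶ H) (e' : G ⟶ G') [IsMonHom e'] : IsBil ((e ▷ A) ≫ υ ≫ e') := by
  intro X h a b
  rw [lift_whiskerRight_assoc, lift_whiskerRight_assoc, lift_whiskerRight_assoc, ← Category.assoc, hυ,
    MonObj.mul_comp, Category.assoc, Category.assoc]

section grp

variable (H G)

/-- Families of homomorphisms form a group. -/
noncomputable def sub (hG : ∀ (X : Over S) (a b : X ⟶ G), a * b = b * a) (T : Over S) : Subgroup (H ⊗ T ⟶ G) where
  carrier := {φ | AutFam.IsHomFamily H G φ}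
  one_mem' := by
    intro X g₁ g₂ t
    rw [MonObj.comp_one, MonObj.comp_one, MonObj.comp_one, _root_.mul_one]
  mul_mem' := by
    intro φ ψ hφ hψ X g₁ g₂ t
    rw [MonObj.comp_mul, MonObj.comp_mul, MonObj.comp_mul, hφ, hψ, _root_.mul_assoc, _root_.mul_assoc]
    congr 1
    rw [← _root_.mul_assoc, ← _root_.mul_assoc, hG _ (lift g₂ t ≫ φ)]
  inv_mem' := by
    intro φ hφ X g₁ g₂ t
    rw [GrpObj.comp_inv, GrpObj.comp_inv, GrpObj.comp_inv, hφ, _root_.mul_inv_rev, hG]

/-- The functor of families of homomorphisms, with values in groups. -/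
noncomputable def fun_ (hG : ∀ (X : Over S) (a b : X ⟶ G), a * b = b * a) : (Over S)ᵒᵖ ⥤ GrpCat.{u} where
  obj T := GrpCat.of (sub H G hG T.unop)
  map f := GrpCat.ofHom
    { toFun := fun φ => ⟨(H ◁ f.unop) ≫ φ.1, IsoFam.isHomFamily_pull φ.2 f.unop⟩
      map_one' := Subtype.ext (MonObj.comp_one _)
      map_mul' := fun φ ψ => Subtype.ext (MonObj.comp_mul _ _ _) }
  map_id T := by
    refine ConcreteCategory.hom_ext _ _ fun φ => ?_
    apply Subtype.ext
    change (H ◁ 𝟙 _) ≫ φ.1 = φ.1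
    simp
  map_comp f g := by
    refine ConcreteCategory.hom_ext _ _ fun φ => ?_
    apply Subtype.ext
    change (H ◁ (g.unop ≫ f.unop)) ≫ φ.1 = (H ◁ g.unop) ≫ (H ◁ f.unop) ≫ φ.1
    simp

variable {H G}

/-- A representing family gives a representation of `fun_`. -/
noncomputable def rep (hG : ∀ (X : Over S) (a b : X ⟶ G), a * b = b * a) {A : Over S} {υ : H ⊗ A ⟶ G} (h : AutFam.RepresentsHom H G A υ) :
    (fun_ H G hG ⋙ forget _).RepresentableBy A where
  homEquiv {T} := Equiv.ofBijective (fun a => (⟨(H ◁ a) ≫ υ, IsoFam.isHomFamily_pull h.1 a⟩ : sub H G hG T)) (by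
    constructor
    · intro a b hab
      exact (h.2 T ((H ◁ b) ≫ υ) (IsoFam.isHomFamily_pull h.1 b)).unique (congrArg Subtype.val hab) rfl
    · rintro ⟨φ, hφ⟩
      obtain ⟨a, ha, -⟩ := h.2 T φ hφ
      exact ⟨a, Subtype.ext ha⟩)
  homEquiv_comp {T T'} f g := by
    apply Subtype.ext
    change (H ◁ (f ≫ g)) ≫ υ = (H ◁ f) ≫ (H ◁ g) ≫ υ
    rw [MonoidalCategory.whiskerLeft_comp, Category.assoc]

/-- **The group structure of `Hom_{S-gr}(H, G)`** for `G` commutative. -/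
theorem exists_grpObj (hG : ∀ (X : Over S) (a b : X ⟶ G), a * b = b * a) {A : Over S} {υ : H ⊗ A ⟶ G} (h : AutFam.RepresentsHom H G A υ) :
    ∃ _ : GrpObj A, IsBil υ := by
  let : GrpObj A := GrpObj.ofRepresentableBy A (fun_ H G hG) (rep hG h)
  refine ⟨this, fun X x a b => ?_⟩
  have h1 : ((rep hG h).homEquiv (a * b) : (fun_ H G hG).obj (op X)) =
      ((rep hG h).homEquiv a : (fun_ H G hG).obj (op X)) * ((rep hG h).homEquiv b : (fun_ H G hG).obj (op X)) :=
    Groth.Agent.RedSub.H668.ofRepresentableBy_mul _ _ a b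
  have h2 : (H ◁ (a * b)) ≫ υ = ((H ◁ a) ≫ υ) * ((H ◁ b) ≫ υ) := congrArg Subtype.val h1
  have h3 : ∀ c : X ⟶ A, lift x c ≫ υ = lift x (𝟙 X) ≫ (H ◁ c) ≫ υ := fun c => by
    rw [← Category.assoc, lift_whiskerLeft, Category.id_comp]
  rw [h3, h3, h3, h2, MonObj.comp_mul]

end grp

section bc

/-- **Base change of the universal family.** -/
theorem exists_bc {A : Over S} {υ : H ⊗ A ⟶ G} (h : AutFam.RepresentsHom H G A υ) {V : Scheme.{u}} (v : V ⟶ S) :
    ∃ υ' : Red.bc v H ⊗ Red.bc v A ⟶ Red.bc v G, AutFam.RepresentsHom (Red.bc v H) (Red.bc v G) (Red.bc v A) υ' ∧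
      ∀ (X : Over V) (x : X ⟶ Red.bc v H) (a : X ⟶ Red.bc v A),
        lift x a ≫ υ' = bcEquiv v X G (lift ((bcEquiv v X H).symm x) ((bcEquiv v X A).symm a) ≫ υ) := by
  obtain ⟨υ', h1, h2⟩ := K6.HomDS.exists_representsHom_of_representableBy
    ((repBC v (repHom h)).ofIso (homFIso v H G).symm)
  refine ⟨υ', h1, fun X x a => ?_⟩
  have h3 : toV v ((H ◁ ((bcEquiv v X A).symm a)) ≫ υ) = (Red.bc v H ◁ a) ≫ υ' := h2 X a
  have h4 : lift x a ≫ υ' = lift x (𝟙 X) ≫ (Red.bc v H ◁ a) ≫ υ' := by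
    rw [← Category.assoc, lift_whiskerLeft, Category.id_comp]
  rw [h4, ← h3, lift_toV, ← Category.assoc, lift_whiskerLeft, CategoryTheory.Functor.map_id, Category.id_comp]

/-- Base change of a bilinear universal family. -/
theorem exists_bc_bil {A : Over S} [GrpObj A] {υ : H ⊗ A ⟶ G} (h : AutFam.RepresentsHom H G A υ) (hυ : IsBil υ)
    {V : Scheme.{u}} (v : V ⟶ S) :
    ∃ υ' : Red.bc v H ⊗ Red.bc v A ⟶ Red.bc v G, AutFam.RepresentsHom (Red.bc v H) (Red.bc v G) (Red.bc v A) υ' ∧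
      IsBil υ' := by
  obtain ⟨υ', h1, h2⟩ := exists_bc h v
  refine ⟨υ', h1, fun X x a b => ?_⟩
  have h3 : (bcEquiv v X A).symm (a * b) = (bcEquiv v X A).symm a * (bcEquiv v X A).symm b :=
    (bcMulEquiv v X A).symm.map_mul a b
  rw [h2, h2, h2, h3, hυ, bcEquiv_mul]

end bc

end K6.HomGrp
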