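import Groth.Agent.SGA3x.K6.UniFin
import Groth.Agent.Sga3B.Par.CochBC
import Groth.Agent.Sga3B.RG.Defs

/-!
# The largest unirational subgroup is normal (infinite perfect base field)

`V P` is the group of `K`-points killing the smallest ideal `P`.

* `vsub`: it is a subgroup;
* `eq_zero_of_rat`: a function on `G_K` vanishing at the `k`-points of `G` is zero;
* `normal_vsub`: `V P` is normal.
-/

set_option autoImplicit false

universe u

open TensorProduct Coalgebra WithConv

namespace K6.UniConj

open K6.UniRat K6.UniLeast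
open Groth.Agent.Sga3B.HaarDef (pushG pushG_apply)
open Groth.Agent.Sga3B.Par.CochBC (res res_apply)
open Groth.Agent.Sga3B.RG

variable {k K : Type u} [Field k] [Field K] [Algebra k K]
variable {B : Type u} [CommRing B] [HopfAlgebra k B]

section Rel

variable {D : Type u} [CommRing D] [Algebra k D]

/-- product of two points killing a coideal -/
lemma mul_apply_eq_zero {P : Ideal B} (hP : P.IsHopfIdeal k) (g h : WithConv (B →ₐ[k] D))
    (hg : ∀ p ∈ P, g p = 0) (hh : ∀ p ∈ P, h p = 0) {p : B} (hp : p ∈ P) : (g * h) p = 0 := by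
  rw [AlgHom.convMul_apply]
  let g' : B ⧸ P →ₐ[k] D := Ideal.Quotient.liftₐ P g.ofConv fun a ha => hg a ha
  let h' : B ⧸ P →ₐ[k] D := Ideal.Quotient.liftₐ P h.ofConv fun a ha => hh a ha
  have key : ∀ z : B ⊗[k] B, Algebra.TensorProduct.lift g.ofConv h.ofConv (fun _ _ => Commute.all _ _) z =
      Algebra.TensorProduct.lift g' h' (fun _ _ => Commute.all _ _)
        (Algebra.TensorProduct.map (Ideal.Quotient.mkₐ k P) (Ideal.Quotient.mkₐ k P) z) := by
    intro z
    induction z using TensorProduct.induction_on with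
    | zero => simp only [map_zero]
    | tmul a b => rfl
    | add x y hx hy => simp only [map_add, hx, hy]
  have h0 : Algebra.TensorProduct.map (Ideal.Quotient.mkₐ k P) (Ideal.Quotient.mkₐ k P)
      (comul (R := k) p) = 0 := hP.map_mkQ_comul_eq_zero hp
  refine (key _).trans ?_
  rw [h0, map_zero]

lemma inv_apply_eq_zero {P : Ideal B} (hP : P.IsHopfIdeal k) (g : WithConv (B →ₐ[k] D))
    (hg : ∀ p ∈ P, g p = 0) {p : B} (hp : p ∈ P) : (g⁻¹) p = 0 := by
  change g (HopfAlgebra.antipode k p) = 0
  exact hg _ (hP.antipode_mem hp)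

lemma one_apply_eq_zero {P : Ideal B} (hP : P.IsHopfIdeal k) {p : B} (hp : p ∈ P) :
    (1 : WithConv (B →ₐ[k] D)) p = 0 := by
  have h1 : (1 : WithConv (B →ₐ[k] D)) p = algebraMap k D (counit (R := k) p) := by
    exact AlgHom.convOne_apply p
  rw [h1, hP.counit_eq_zero hp, map_zero]

/-- a rational point seen as a point with values in `D` -/
noncomputable def cst (D : Type u) [CommRing D] [Algebra k D] (γ : B →ₐ[k] k) : WithConv (B →ₐ[k] D) :=
  toConv ((Algebra.ofId k D).comp γ)

lemma pushG_cst {D' : Type u} [CommRing D'] [Algebra k D'] (f : D →ₐ[k] D') (γ : B →ₐ[k] k) :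
    pushG f (cst D γ) = cst D' γ := by
  apply WithConv.ofConv_injective
  ext b
  exact f.commutes _

/-- conjugation by a rational point, on functions -/
noncomputable def cj (γ : B →ₐ[k] k) : B →ₐ[k] B :=
  (cst B γ * toConv (AlgHom.id k B) * (cst B γ)⁻¹).ofConv

lemma comp_cj (γ : B →ₐ[k] k) (f : B →ₐ[k] D) :
    toConv (f.comp (cj γ)) = cst D γ * toConv f * (cst D γ)⁻¹ := by
  have h1 : toConv (f.comp (cj γ)) = pushG f (cst B γ * toConv (AlgHom.id k B) * (cst B γ)⁻¹) := rfl
  rw [h1, map_mul, map_mul, map_inv, pushG_cst]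
  rfl

end Rel

/-- Conjugation by rational points preserves the smallest ideal. -/
theorem cj_mem {P : Ideal B} (hP : Least k P) (γ : B →ₐ[k] k) {p : B} (hp : p ∈ P) :
    cj γ p ∈ P := by
  have h1 : P ≤ RingHom.ker ((Ideal.Quotient.mkₐ k P).comp (cj (k := k) γ)) := by
    refine hP.le _ (InF.of hP.inF.urat ((Ideal.Quotient.mkₐ k P).comp (cj (k := k) γ))) fun b hb => ?_
    have h2 : cj γ b ∈ P := Ideal.Quotient.eq_zero_iff_mem.1 hb
    have h3 := hP.le_aug h2
    have h4 := comp_cj γ (Bialgebra.counitAlgHom k B)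
    have h5 : (toConv (Bialgebra.counitAlgHom k B) : WithConv (B →ₐ[k] k)) = 1 := by
      apply WithConv.ofConv_injective
      refine AlgHom.ext fun b => ?_
      have h7 : (1 : WithConv (B →ₐ[k] k)) b = counit (R := k) b := AlgHom.convOne_apply b
      exact h7.symm
    rw [h5, mul_one, mul_inv_cancel] at h4
    have h6 := congrArg (fun x : WithConv (B →ₐ[k] k) => x b) h4
    have h7 : (1 : WithConv (B →ₐ[k] k)) b = counit (R := k) b := AlgHom.convOne_apply b
    have h8 : counit (R := k) (cj γ b) = 0 := h3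
    exact h7.symm.trans (h6.symm.trans h8)
  exact Ideal.Quotient.eq_zero_iff_mem.1 (h1 hp)

section V

variable (K)

/-- the points killing the ideal -/
noncomputable def vsub {P : Ideal B} (hP : P.IsHopfIdeal k) : Subgroup (Pt K (K ⊗[k] B)) where
  carrier := {g | ∀ p ∈ P, g (1 ⊗ₜ p) = 0}
  mul_mem' := by
    intro g h hg hh p hp
    have h1 : (g * h) (1 ⊗ₜ p) = (res k K B K (g * h)) p := rfl
    rw [h1, map_mul]
    exact mul_apply_eq_zero hP (res k K B K g) (res k K B K h) (fun q hq => hg q hq)
      (fun q hq => hh q hq) hp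
  one_mem' := by
    intro p hp
    have h1 : (1 : Pt K (K ⊗[k] B)) (1 ⊗ₜ p) = (res k K B K 1) p := rfl
    rw [h1, map_one]
    exact one_apply_eq_zero hP hp
  inv_mem' := by
    intro g hg p hp
    have h1 : (g⁻¹) (1 ⊗ₜ p) = (res k K B K g⁻¹) p := rfl
    rw [h1, map_inv]
    exact inv_apply_eq_zero hP (res k K B K g) (fun q hq => hg q hq) hp

lemma mem_vsub {P : Ideal B} (hP : P.IsHopfIdeal k) {g : Pt K (K ⊗[k] B)} :
    g ∈ vsub K hP ↔ ∀ p ∈ P, g (1 ⊗ₜ p) = 0 := Iff.rfl

end V

section Dense

/-- the extension of a rational point -/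
noncomputable def ext (K : Type u) [Field K] [Algebra k K] (γ : B →ₐ[k] k) : K ⊗[k] B →ₐ[K] K :=
  Algebra.TensorProduct.lift (AlgHom.id K K) ((Algebra.ofId k K).comp γ) (fun _ _ => Commute.all _ _)

lemma ext_tmul (γ : B →ₐ[k] k) (c : K) (b : B) : ext K γ (c ⊗ₜ b) = c * algebraMap k K (γ b) := by
  rw [ext, Algebra.TensorProduct.lift_tmul]
  rfl

/-- **A function vanishing at the rational points is zero.** -/
theorem eq_zero_of_rat [Infinite k] [PerfectField k] [Algebra.Smooth k B]
    [ConnectedSpace (PrimeSpectrum B)] (f : K ⊗[k] B) (hf : ∀ γ : B →ₐ[k] k, ext K γ f = 0) : f = 0 := by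
  classical
  let c := Module.Free.chooseBasis k K
  let E := TensorProduct.equivFinsuppOfBasisLeft (N := B) c
  apply E.injective
  rw [map_zero]
  ext i
  rw [Finsupp.zero_apply]
  by_contra hne
  obtain ⟨γ, hγ⟩ := UniFin.exists_point (k := k) k hne
  apply hγ
  have key : ∀ z : K ⊗[k] B, γ (E z i) = c.repr (ext K γ z) i := by
    intro z
    induction z using TensorProduct.induction_on with
    | zero => simp only [map_zero, Finsupp.zero_apply]
    | tmul x b =>
      rw [TensorProduct.equivFinsuppOfBasisLeft_apply_tmul_apply, ext_tmul, map_smul, mul_comm x,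
        ← Algebra.smul_def, map_smul, Finsupp.smul_apply, smul_eq_mul, smul_eq_mul, mul_comm]
    | add x y hx hy => rw [map_add, Finsupp.add_apply, map_add, hx, hy, map_add, map_add,
        Finsupp.add_apply]
  rw [key, hf, map_zero, Finsupp.zero_apply]

end Dense

/-- **The largest unirational subgroup is normal.** -/
theorem normal_vsub [Infinite k] [PerfectField k] [Algebra.Smooth k B]
    [ConnectedSpace (PrimeSpectrum B)] {P : Ideal B} (hP : Least k P) :
    (vsub K hP.isHopfIdeal).Normal := by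
  constructor
  intro v hv g p hp
  let v' : WithConv (B →ₐ[k] K) := res k K B K v
  have hv' : ∀ p ∈ P, v' p = 0 := hv
  let ι : K →ₐ[k] K ⊗[k] B := IsScalarTower.toAlgHom k K (K ⊗[k] B)
  let U : WithConv (B →ₐ[k] K ⊗[k] B) := toConv Algebra.TensorProduct.includeRight
  let F : K ⊗[k] B := (U * pushG ι v' * U⁻¹) p
  have hF : ∀ x : K ⊗[k] B →ₐ[K] K, x F = (res k K B K (toConv x) * v' * (res k K B K (toConv x))⁻¹) p := by
    intro x
    have h1 : x F = (pushG (x.restrictScalars k) (U * pushG ι v' * U⁻¹)) p := rfl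
    have h2 : pushG (x.restrictScalars k) U = res k K B K (toConv x) := rfl
    have h3 : pushG (x.restrictScalars k) (pushG ι v') = v' := by
      apply WithConv.ofConv_injective
      ext b
      exact x.commutes _
    rw [h1, map_mul, map_mul, map_inv, h2, h3]
  have hF0 : F = 0 := by
    apply eq_zero_of_rat
    intro γ
    rw [hF]
    have h4 : res k K B K (toConv (ext K γ)) = cst K γ := by
      apply WithConv.ofConv_injective
      ext b
      change ext K γ (1 ⊗ₜ b) = _
      rw [ext_tmul, one_mul]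
      rfl
    rw [h4, show v' = toConv v'.ofConv from rfl, ← comp_cj]
    exact hv' _ (cj_mem hP γ hp)
  have h5 := hF g.ofConv
  rw [hF0, map_zero] at h5
  have h6 : (g * v * g⁻¹) (1 ⊗ₜ p) = (res k K B K (g * v * g⁻¹)) p := rfl
  rw [h6, map_mul, map_mul, map_inv]
  exact h5.symm

end K6.UniConj
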