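import Groth.Agent.SGA3x.K6.UniLeast
import Groth.Agent.S3940
import Groth.Agent.Agf.H617.LangDom
import Groth.Agent.Sga3.H814.CentralK
import Mathlib.FieldTheory.PurelyInseparable.PerfectClosure

/-!
# The largest unirational subgroup over a finite field

* `exists_ratFun`: over a finite field `k` the maps from the coordinate ring `B` of a smooth connected group to `k(t)`
  separate the elements of `B` (density of the rational points over the perfect closure of `k(t)`);
* `eq_bot`: the smallest ideal is zero (Lang's theorem).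
-/

set_option autoImplicit false

universe u

open CategoryTheory AlgebraicGeometry TensorProduct Coalgebra
open Groth.Agent.Books.AffBridge Groth.Agent.Books.AffBridge2
open WithConv

namespace K6.UniFin

open K6.UniRat K6.UniLeast

variable {k : Type u} [Field k] {B : Type u} [CommRing B] [HopfAlgebra k B]

lemma infinite_fr : Infinite (Fr k (Fin 1)) :=
  Infinite.of_injective (algebraMap (MvPolynomial (Fin 1) k) (Fr k (Fin 1)))
    (IsFractionRing.injective _ _)

lemma frob_pow_apply [Fintype k] {K : Type u} [Field K] [Algebra k K] (N : ℕ) (y : K) :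
    ((FiniteField.frobeniusAlgHom k K) ^ N) y = y ^ (Fintype.card k ^ N) := by
  induction N generalizing y with
  | zero => simp
  | succ N ih =>
    rw [pow_succ, AlgHom.mul_apply, ih, FiniteField.frobeniusAlgHom_apply, ← pow_mul, ← pow_succ']

/-- Rational points over a perfect infinite field separate the functions. -/
theorem exists_point (K : Type u) [Field K] [Infinite K] [PerfectField K] [Algebra k K]
    [Algebra.Smooth k B] [ConnectedSpace (PrimeSpectrum B)] {f : B} (hf : f ≠ 0) :
    ∃ x : B →ₐ[k] K, x f ≠ 0 := by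
  have hsm : Algebra.Smooth K (K ⊗[k] B) := inferInstance
  have h1 : Smooth (SpecOver K (K ⊗[k] B)).hom := (smooth_specOver_iff (k := K) _).2 hsm
  have h2 : ConnectedSpace (PrimeSpectrum (K ⊗[k] B)) :=
    Groth.Agent.Sga3A.GeomConn.connectedSpace_tensor (Bialgebra.counitAlgHom k B)
  have h3 : ConnectedSpace ↥(SpecOver K (K ⊗[k] B)).left := h2
  have h4 : IsReduced (SpecOver K (K ⊗[k] B)).left :=
    Groth.Agent.Books.AlgPtsSmooth.isReduced_of_smooth _
  have h5 : _root_.IsReduced (K ⊗[k] B) := (affine_isReduced_iff (.of (K ⊗[k] B))).1 h4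
  have h6 := Groth.Agent.S3940.result K (SpecOver K (K ⊗[k] B))
  have h7 : (1 : K) ⊗ₜ[k] f ≠ 0 := by
    have h8 : Function.Injective (Algebra.TensorProduct.includeRight : B →ₐ[k] K ⊗[k] B) :=
      Algebra.TensorProduct.includeRight_injective (algebraMap k K).injective
    intro h
    exact hf (h8 (h.trans (map_zero _).symm))
  obtain ⟨x, hx⟩ := Groth.Agent.Agf.H612.GalMain.exists_of_dense h6 h7
  exact ⟨(x.restrictScalars k).comp Algebra.TensorProduct.includeRight, hx⟩

/-- **Over a finite field the maps to `k(t)` separate the functions.** -/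
theorem exists_ratFun [Finite k] [Algebra.Smooth k B] [ConnectedSpace (PrimeSpectrum B)] {f : B}
    (hf : f ≠ 0) : ∃ ψ : B →ₐ[k] Fr k (Fin 1), ψ f ≠ 0 := by
  classical
  let _ : Fintype k := Fintype.ofFinite k
  obtain ⟨p, hp⟩ := CharP.exists k
  obtain ⟨r, hpp, hcard⟩ := FiniteField.card k p
  have : Fact p.Prime := ⟨hpp⟩
  let F := Fr k (Fin 1)
  have hpF : CharP F p := charP_of_injective_algebraMap (algebraMap k F).injective p
  have hexp : ExpChar F p := ExpChar.prime hpp
  let Ω := AlgebraicClosure F
  let K := perfectClosure F Ω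
  have : Infinite F := infinite_fr
  have : Infinite K := Infinite.of_injective (algebraMap F K) (algebraMap F K).injective
  obtain ⟨x, hx⟩ := exists_point (k := k) K hf
  obtain ⟨s, hs⟩ := (inferInstance : Algebra.FiniteType k B)
  have hex : ∀ b : B, ∃ n : ℕ, (x b) ^ p ^ n ∈ (algebraMap F K).range := by
    intro b
    obtain ⟨n, y, hy⟩ := (mem_perfectClosure_iff_pow_mem p).1 (x b).2
    exact ⟨n, y, Subtype.ext hy⟩
  choose n hn using hex
  let N : ℕ := s.sup n
  let φ : B →ₐ[k] K := ((FiniteField.frobeniusAlgHom k K) ^ N).comp x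
  have hφ : ∀ b, φ b = (x b) ^ (Fintype.card k ^ N) := fun b => frob_pow_apply N (x b)
  let ι : F →ₐ[k] K := IsScalarTower.toAlgHom k F K
  have hι : Function.Injective ι := (algebraMap F K).injective
  have hr : ∀ b, φ b ∈ ι.range := by
    have h1 : (⊤ : Subalgebra k B) ≤ ι.range.comap φ := by
      rw [← hs, Algebra.adjoin_le_iff]
      intro b hb
      rw [SetLike.mem_coe, Subalgebra.mem_comap, hφ, hcard, ← pow_mul]
      have h2 : n b ≤ r * N := by
        have h3 : n b ≤ N := Finset.le_sup (f := n) hb
        exact h3.trans (Nat.le_mul_of_pos_left N r.pos)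
      obtain ⟨m, hm⟩ := Nat.exists_eq_add_of_le h2
      rw [hm, pow_add, pow_mul]
      obtain ⟨y, hy⟩ := hn b
      rw [← hy]
      exact pow_mem (⟨y, rfl⟩ : (algebraMap F K) y ∈ ι.range) _
    exact fun b => h1 Algebra.mem_top
  let e : F ≃ₐ[k] ι.range := AlgEquiv.ofInjective ι hι
  refine ⟨(e.symm : ι.range →ₐ[k] F).comp (φ.codRestrict ι.range hr), ?_⟩
  intro h
  have h1 : e.symm (φ.codRestrict ι.range hr f) = 0 := h
  rw [EmbeddingLike.map_eq_zero_iff] at h1
  have h2 : φ f = 0 := congrArg Subtype.val h1
  rw [hφ] at h2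
  exact hx (eq_zero_of_pow_eq_zero h2)

/-- the Lang map on functions -/
noncomputable def langMap (k : Type u) [Field k] [Fintype k] (B : Type u) [CommRing B]
    [HopfAlgebra k B] : B →ₐ[k] B :=
  (Algebra.TensorProduct.lift (HopfAlgebra.antipodeAlgHom k B) (FiniteField.frobeniusAlgHom k B)
    (fun _ _ => Commute.all _ _)).comp (Bialgebra.comulAlgHom k B)

/-- **The largest unirational subgroup over a finite field.** -/
theorem eq_bot [Finite k] [Algebra.Smooth k B] [ConnectedSpace (PrimeSpectrum B)] {P : Ideal B}
    (hP : Least k P) : P = ⊥ := by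
  classical
  let _ : Fintype k := Fintype.ofFinite k
  rw [eq_bot_iff]
  intro p hp
  -- the Lang map kills `p`
  have h1 : langMap k B p = 0 := by
    by_contra hne
    obtain ⟨ψ, hψ⟩ := exists_ratFun (k := k) hne
    apply hψ
    have h2 := hP.invMul_eq_zero ⟨1, AlgHom.id k _, Function.injective_id⟩ ψ hp
    let F := Fr k (Fin 1)
    let μ : F ⊗[k] F →ₐ[k] F := Algebra.TensorProduct.lift (AlgHom.id k F)
      (FiniteField.frobeniusAlgHom k F) (fun _ _ => Commute.all _ _)
    have h3 : ∀ z : B ⊗[k] B, μ (Algebra.TensorProduct.map (ψ.comp (HopfAlgebra.antipodeAlgHom k B)) ψ z) =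
        ψ (Algebra.TensorProduct.lift (HopfAlgebra.antipodeAlgHom k B)
          (FiniteField.frobeniusAlgHom k B) (fun _ _ => Commute.all _ _) z) := by
      intro z
      induction z using TensorProduct.induction_on with
      | zero => simp only [map_zero]
      | tmul a b =>
        simp only [μ, Algebra.TensorProduct.map_tmul, Algebra.TensorProduct.lift_tmul, map_mul,
          FiniteField.frobeniusAlgHom_apply, map_pow]
        rfl
      | add x y hx hy => simp only [map_add, hx, hy]
    have h4 := h3 (comul (R := k) p)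
    have h5 : Algebra.TensorProduct.map (ψ.comp (HopfAlgebra.antipodeAlgHom k B)) ψ
        (comul (R := k) p) = 0 := h2
    rw [h5, map_zero] at h4
    exact h4.symm
  -- every point over an algebraically closed field kills `p`
  let K := AlgebraicClosure k
  have hdom : IsDomain (K ⊗[k] B) := Groth.Agent.Agf.H617.LangDom.isDomain_tensor B K
  refine Groth.Agent.Sga3.H814.CentralK.eq_zero_of_pts (k := k) (K := K) (H := B) ?_
  intro h
  obtain ⟨g, hg⟩ := Groth.Agent.Sga3B.MT.Lang.lang (k := k) (A := B) (K := K) (toConv h)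
  have h2 : (toConv h : WithConv (B →ₐ[k] K)) p = 0 := by
    rw [hg, AlgHom.convMul_apply]
    have h3 : ∀ z : B ⊗[k] B, Algebra.TensorProduct.lift (g⁻¹).ofConv
        (Groth.Agent.Sga3B.HaarDef.pushG (FiniteField.frobeniusAlgHom k K) g).ofConv
        (fun _ _ => Commute.all _ _) z =
        g.ofConv (Algebra.TensorProduct.lift (HopfAlgebra.antipodeAlgHom k B)
          (FiniteField.frobeniusAlgHom k B) (fun _ _ => Commute.all _ _) z) := by
      intro z
      induction z using TensorProduct.induction_on with
      | zero => simp only [map_zero]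
      | tmul a b =>
        simp only [Algebra.TensorProduct.lift_tmul, map_mul, FiniteField.frobeniusAlgHom_apply,
          map_pow]
        rfl
      | add x y hx hy => simp only [map_add, hx, hy]
    refine (h3 _).trans ?_
    have h4 : Algebra.TensorProduct.lift (HopfAlgebra.antipodeAlgHom k B)
        (FiniteField.frobeniusAlgHom k B) (fun _ _ => Commute.all _ _) (comul (R := k) p) = 0 := h1
    rw [h4, map_zero]
  exact h2

end K6.UniFin
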