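import Groth.Agent.SGA3x.K6.UniTorus

/-!
# Tori over an infinite field are unirational: the generic norm
-/

set_option autoImplicit false

universe u

open TensorProduct

namespace K6.UniTorus

open Groth.Agent.Sga3A.MTBasis Groth.Agent.Agf.H606.TorDense Groth.Agent.Agf.H612
open Groth.Agent.Sga3B.TorusEtLoc920 (Mu)
open K6.UniRat

section Gens

variable {r : ℕ}

/-- the generators of the character group -/
def gen (i : Fin r) : Mu.{u} r := ULift.up (Multiplicative.ofAdd (Pi.single i 1))

lemma eq_prod (m : Mu.{u} r) : m = ∏ i, (gen.{u} i) ^ (Multiplicative.toAdd m.down i) := by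
  apply (MulEquiv.ulift (α := Multiplicative (Fin r → ℤ))).injective
  rw [map_prod]
  apply Multiplicative.toAdd.injective
  rw [toAdd_prod]
  funext j
  rw [Finset.sum_apply, Finset.sum_eq_single j]
  · rw [map_zpow, toAdd_zpow]
    change _ = (m.down.toAdd j) • (Pi.single j (1 : ℤ) : Fin r → ℤ) j
    rw [Pi.single_eq_same, smul_eq_mul, mul_one]
    rfl
  · intro i _ hi
    rw [map_zpow, toAdd_zpow]
    change (m.down.toAdd i) • (Pi.single i (1 : ℤ) : Fin r → ℤ) j = 0
    rw [Pi.single_eq_of_ne (Ne.symm hi), smul_zero]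
  · intro h
    exact absurd (Finset.mem_univ _) h

lemma ext_gen {G : Type*} [CommGroup G] {f f' : Mu.{u} r →* G}
    (h : ∀ i, f (gen i) = f' (gen i)) : f = f' := by
  ext m
  rw [eq_prod m, map_prod, map_prod]
  refine Finset.prod_congr rfl fun i _ => ?_
  rw [map_zpow, map_zpow, h]

/-- the character group homomorphism with prescribed values on the generators -/
def chiOf {D : Type u} [CommRing D] (v : Fin r → Dˣ) : Mu.{u} r →* Dˣ where
  toFun m := ∏ i, (v i) ^ (Multiplicative.toAdd m.down i)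
  map_one' := by
    refine Finset.prod_eq_one fun i _ => ?_
    change v i ^ (0 : ℤ) = 1
    rw [zpow_zero]
  map_mul' m n := by
    rw [← Finset.prod_mul_distrib]
    refine Finset.prod_congr rfl fun i _ => ?_
    rw [← zpow_add]
    rfl

lemma chiOf_gen {D : Type u} [CommRing D] (v : Fin r → Dˣ) (i : Fin r) : chiOf v (gen.{u} i) = v i := by
  change ∏ j, (v j) ^ ((Pi.single i (1 : ℤ) : Fin r → ℤ) j) = v i
  rw [Finset.prod_eq_single i]
  · rw [Pi.single_eq_same, zpow_one]
  · intro j _ hj
    rw [Pi.single_eq_of_ne hj, zpow_zero]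
  · intro h
    exact absurd (Finset.mem_univ _) h

end Gens

variable {k L : Type u} [Field k] [Field L] [Algebra k L] [FiniteDimensional k L] [IsGalois k L]
variable {A : Type u} [CommRing A] [Bialgebra k A]

/-- **Tori over an infinite field are unirational**, algebraic form. -/
theorem urat_of_gbasis [Infinite k] {r : ℕ} (g : GBasis L (L ⊗[k] A) (Mu.{u} r)) : URat k A := by
  classical
  let _ : Fintype (L ≃ₐ[k] L) := Fintype.ofFinite _
  let n := Module.finrank k L
  let bL : Module.Basis (Fin n) k L := Module.finBasis k L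
  let Q : Type u := MvPolynomial (Fin r × Fin n) k
  let uQ : Fin r → L ⊗[k] Q := fun i => ∑ j, bL j ⊗ₜ[k] MvPolynomial.X (i, j)
  let DQ : Fin r → L ⊗[k] Q := fun i => ∏ σ : L ≃ₐ[k] L, sD Q σ (uQ i)
  have hDQ : ∀ i, ∃ d : Q, DQ i = 1 ⊗ₜ d := by
    intro i
    refine exists_of_fixed Q _ fun τ => ?_
    rw [map_prod]
    refine Fintype.prod_equiv (Equiv.mulLeft τ) _ _ fun σ => ?_
    exact sD_sD Q τ σ _
  choose δ' hδ' using hDQ
  let δ : Q := ∏ i, δ' i
  -- evaluation
  let ev : (Fin r × Fin n → L) → (L ⊗[k] Q →ₐ[k] L) := fun w =>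
    Algebra.TensorProduct.lift (AlgHom.id k L) (MvPolynomial.aeval w) (fun _ _ => Commute.all _ _)
  have hev : ∀ w (σ : L ≃ₐ[k] L) i, ev w (sD Q σ (uQ i)) = ∑ j, w (i, j) * σ (bL j) := by
    intro w σ i
    simp only [uQ, map_sum]
    refine Finset.sum_congr rfl fun j _ => ?_
    rw [sD_tmul]
    change Algebra.TensorProduct.lift _ _ _ (_ ⊗ₜ _) = _
    rw [Algebra.TensorProduct.lift_tmul, MvPolynomial.aeval_X, mul_comm]
    rfl
  have hev1 : ∀ w (p : Q), ev w (1 ⊗ₜ p) = MvPolynomial.aeval w p := by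
    intro w p
    change Algebra.TensorProduct.lift _ _ _ (_ ⊗ₜ _) = _
    rw [Algebra.TensorProduct.lift_tmul, map_one, one_mul]
  have hinterp : ∀ t : Fin r → Lˣ, ∃ w : Fin r × Fin n → L, ∀ (σ : L ≃ₐ[k] L) i,
      ev w (sD Q σ (uQ i)) = if σ = 1 then (t i : L) else 1 := by
    intro t
    have h1 : ∀ i, ∃ w : Fin n → L, ∀ σ : L ≃ₐ[k] L, ∑ j, w j * (AlgHom.id k L) (σ (bL j)) =
        if σ = 1 then (t i : L) else 1 :=
      fun i => Groth.Agent.Agf.H603.TorNorm.exists_interp (AlgHom.id k L) bL _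
    choose w hw using h1
    refine ⟨fun x => w x.1 x.2, fun σ i => ?_⟩
    rw [hev]
    exact hw i σ
  have hδw : ∀ (t : Fin r → Lˣ) (w : Fin r × Fin n → L), (∀ (σ : L ≃ₐ[k] L) i,
      ev w (sD Q σ (uQ i)) = if σ = 1 then (t i : L) else 1) → MvPolynomial.aeval w δ ≠ 0 := by
    intro t w hw
    rw [← hev1]
    have h1 : (1 : L) ⊗ₜ[k] δ = ∏ i, DQ i := by
      simp only [hδ']
      exact map_prod (Algebra.TensorProduct.includeRight : Q →ₐ[k] L ⊗[k] Q) δ' Finset.univ
    rw [h1, map_prod]
    refine Finset.prod_ne_zero_iff.2 fun i _ => ?_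
    simp only [DQ, map_prod]
    refine Finset.prod_ne_zero_iff.2 fun σ _ => ?_
    rw [hw]
    split_ifs
    · exact (t i).ne_zero
    · exact one_ne_zero
  have hδ0 : δ ≠ 0 := by
    obtain ⟨w, hw⟩ := hinterp (fun _ => 1)
    intro h
    apply hδw _ w hw
    rw [h, map_zero]
  let R : Type u := Localization.Away δ
  let jR : L ⊗[k] Q →ₐ[k] L ⊗[k] R :=
    Algebra.TensorProduct.map (AlgHom.id k L) (IsScalarTower.toAlgHom k Q R)
  have hjR : ∀ (σ : L ≃ₐ[k] L) z, sD R σ (jR z) = jR (sD Q σ z) := by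
    intro σ z
    induction z using TensorProduct.induction_on with
    | zero => simp only [map_zero]
    | tmul x y => rfl
    | add x y hx hy => simp only [map_add, hx, hy]
  have hunit : ∀ i, IsUnit (jR (uQ i)) := by
    intro i
    have h1 : jR (uQ i) ∣ jR (DQ i) := by
      refine map_dvd jR ?_
      have h2 := Finset.dvd_prod_of_mem (fun σ : L ≃ₐ[k] L => sD Q σ (uQ i)) (Finset.mem_univ 1)
      simp only [sD_one] at h2
      exact h2
    refine isUnit_of_dvd_unit h1 ?_
    rw [hδ']
    have h3 : IsUnit (algebraMap Q R (δ' i)) := by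
      refine isUnit_of_dvd_unit (map_dvd (algebraMap Q R) (Finset.dvd_prod_of_mem δ' (Finset.mem_univ i))) ?_
      exact IsLocalization.Away.algebraMap_isUnit δ
    exact h3.map (Algebra.TensorProduct.includeRight : R →ₐ[k] L ⊗[k] R)
  let χ : Mu.{u} r →* (L ⊗[k] R)ˣ := chiOf fun i => (hunit i).unit
  obtain ⟨ψ, hψ⟩ := exists_desc g χ
  have hinj : Function.Injective ψ := by
    rw [injective_iff_map_eq_zero]
    intro a ha
    by_contra hne
    obtain ⟨φ, hφ⟩ := exists_algHom_ne_zero g Groth.Agent.Agf.H606.TorDenseSch.mu_eq_one a hne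
    let φL : L ⊗[k] A →ₐ[L] L :=
      Algebra.TensorProduct.lift (AlgHom.id L L) ((Algebra.ofId k L).comp φ) (fun _ _ => Commute.all _ _)
    have hφL : φL (1 ⊗ₜ a) = algebraMap k L (φ a) := by
      change Algebra.TensorProduct.lift _ _ _ (_ ⊗ₜ _) = _
      rw [Algebra.TensorProduct.lift_tmul, map_one, one_mul]
      rfl
    let θ : Mu.{u} r →* Lˣ := MonoidHom.toHomUnits ((φL : L ⊗[k] A →* L).comp g.hom)
    have hθ : ∀ m, (θ m : L) = φL (g.b m) := fun m => rfl
    have hpt : pt g θ (1 ⊗ₜ a) = φL (1 ⊗ₜ a) := by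
      have h1 : (pt g θ).toLinearMap = φL.toLinearMap := by
        apply g.b.ext
        intro m
        exact (pt_b g θ m).trans (hθ m)
      exact DFunLike.congr_fun h1 _
    obtain ⟨w, hw⟩ := hinterp fun i => θ (gen i)
    have hwδ := hδw _ w hw
    let ρ : R →ₐ[k] L := IsLocalization.liftAlgHom (M := Submonoid.powers δ) (S := R)
      (f := MvPolynomial.aeval w) (by
        rintro ⟨_, m, rfl⟩
        rw [map_pow]
        exact (isUnit_iff_ne_zero.2 hwδ).pow m)
    have hρ : ∀ p : Q, ρ (algebraMap Q R p) = MvPolynomial.aeval w p := fun p =>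
      IsLocalization.lift_eq _ _
    let evR : L ⊗[k] R →ₐ[k] L := Algebra.TensorProduct.lift (AlgHom.id k L) ρ (fun _ _ => Commute.all _ _)
    have hevR : ∀ z, evR (jR z) = ev w z := by
      intro z
      have h1 : evR.comp jR = ev w := by
        apply Algebra.TensorProduct.ext
        · ext x
          simp [evR, jR, ev]
        · apply MvPolynomial.algHom_ext
          intro i
          simp only [AlgHom.comp_apply, AlgHom.restrictScalars_apply,
            Algebra.TensorProduct.includeRight_apply]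
          rw [hev1]
          change Algebra.TensorProduct.lift _ _ _ ((1 : L) ⊗ₜ[k] (algebraMap Q R (MvPolynomial.X i))) = _
          rw [Algebra.TensorProduct.lift_tmul, map_one, one_mul, hρ]
      exact DFunLike.congr_fun h1 z
    have hu : ∀ i (σ : L ≃ₐ[k] L), evR (sD R σ ((hunit i).unit : L ⊗[k] R)) =
        if σ = 1 then (θ (gen i) : L) else 1 := by
      intro i σ
      rw [IsUnit.unit_spec, hjR, hevR, hw]
    have h5 := eval_desc g χ ρ θ ?_ ?_ ψ hψ a
    · rw [ha, map_zero, hpt, hφL] at h5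
      exact hφ ((map_eq_zero_iff _ (algebraMap k L).injective).1 h5.symm)
    · intro m
      have h6 : (Units.map (evR : L ⊗[k] R →* L)).comp χ = θ := by
        apply ext_gen
        intro i
        apply Units.ext
        change evR ((χ (gen i) : (L ⊗[k] R)ˣ) : L ⊗[k] R) = _
        rw [chiOf_gen]
        have h7 := hu i 1
        rw [sD_one, if_pos rfl] at h7
        exact h7
      exact congrArg Units.val (DFunLike.congr_fun h6 m)
    · intro σ hσ m
      have h6 : (Units.map ((evR.comp (sD R σ) : L ⊗[k] R →ₐ[k] L) : L ⊗[k] R →* L)).comp χ = 1 := by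
        apply ext_gen
        intro i
        apply Units.ext
        change evR (sD R σ ((χ (gen i) : (L ⊗[k] R)ˣ) : L ⊗[k] R)) = _
        rw [chiOf_gen, hu i σ, if_neg hσ]
        rfl
      exact congrArg Units.val (DFunLike.congr_fun h6 m)
  exact (URat.of_localization (R := R) δ hδ0).of_injective ψ hinj

end K6.UniTorus
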