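import Groth.Agent.SGA3x.K6.UniConj
import Groth.Agent.SGA3x.K6.UniTorus2
import Groth.Agent.Sga3.H814.PolyThm
import Groth.Agent.Sga3.H530.Ru
import Groth.Agent.AGF.K494.BcDict
import Groth.Agent.AGF.K494.HomDict
import Groth.Agent.Agf.H614.CentPt
import Groth.Agent.S4121

/-!
# The largest unirational subgroup over an infinite perfect field

* `mem_of_unip`: it contains the connected unipotent subgroups;
* `mem_of_torus`: it contains the tori;
* `eq_bot`: the smallest ideal is zero.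
-/

set_option autoImplicit false

universe u

open CategoryTheory MonoidalCategory CartesianMonoidalCategory MonObj GrpObj AlgebraicGeometry
open TensorProduct WithConv
open Groth.Agent.Books.AffBridge Groth.Agent.Books.AffBridge2

namespace K6.UniInf

open K6.UniRat K6.UniLeast K6.UniConj
open Groth.Agent.Sga3B.RG
open Groth.Agent.Agf.H604.SemiDesc Groth.Agent.Agf.H604.BcSub
open Groth.Agent.Agf.H612.GalSub Groth.Agent.Agf.H612.GalPts Groth.Agent.Agf.H612.GalQuot
  Groth.Agent.Agf.H612.GalRed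
open Groth.Agent.Sga3.H814 Groth.Agent.Sga3.H530.Ru
open Groth.Agent.Books.ComodDual Groth.Agent.Books.ComodSocle Groth.Agent.Books.SubHopf

variable {k K : Type u} [Field k] [Field K] [Algebra k K]
variable {B : Type u} [CommRing B] [HopfAlgebra k B]

section Unip

/-- A connected unipotent group over a perfect field is unirational. -/
theorem urat_of_unip [PerfectField k] [IsAlgClosed K] [Algebra.IsAlgebraic k K]
    (H : Type u) [CommRing H] [HopfAlgebra k H] [Algebra.FiniteType k H] [IsDomain (K ⊗[k] H)]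
    (hU : HopfRep.IsUnipotent k H) : URat k H := by
  have hnt : Nontrivial H := by
    refine ⟨⟨1, 0, fun h => ?_⟩⟩
    have := congrArg (CoalgebraStruct.counit (R := k)) h
    rw [Bialgebra.counit_one, map_zero] at this
    exact one_ne_zero this
  obtain ⟨N, ⟨e⟩⟩ := PolyThm.exists_mvPolynomial k K H hU H (SubInv.isComodAlg_self (k := k) (H := H))
    (fun a ha => ⟨_, PolyThm.fixedPts_self ha⟩)
  exact (URat.of_mvPolynomial (Fin N)).of_injective (e : H →ₐ[k] MvPolynomial (Fin N) k) e.injective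

/-- **The connected unipotent subgroups are contained in the largest unirational subgroup.** -/
theorem mem_of_unip [PerfectField k] [IsAlgClosed K] [Algebra.IsAlgebraic k K]
    [Algebra.FiniteType k B] {P : Ideal B} (hP : Least k P)
    {N : Subgroup (Pt K (K ⊗[k] B))} (hcl : IsCl (N : Set (Pt K (K ⊗[k] B))))
    (hconn : IsConn (N : Set (Pt K (K ⊗[k] B)))) (hu : ∀ g ∈ N, IsUnip g)
    (hst : ∀ (σ : K ≃ₐ[k] K), ∀ g ∈ N, gal σ g ∈ N) : N ≤ vsub K hP.isHopfIdeal := by
  have hfix : ∀ c : K, (∀ σ : K ≃ₐ[k] K, σ c = c) → c ∈ (algebraMap k K).range :=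
    mem_range_of_fixed k K
  have hJ := map_comap_vanIdeal hfix (S := (N : Set (Pt K (K ⊗[k] B)))) hst
  set J := (vanIdeal (N : Set (Pt K (K ⊗[k] B)))).comap
    (Algebra.TensorProduct.includeRight : B →ₐ[k] K ⊗[k] B) with hJdef
  have h1 : (J.map (Algebra.TensorProduct.includeRight : B →ₐ[k] K ⊗[k] B)).IsHopfIdeal K := by
    rw [hJ]
    infer_instance
  have h3 : J.IsHopfIdeal k := isHopfIdeal_of_map J h1
  let π : B →ₐc[k] B ⧸ J := Bialgebra.Quotient.mkBialgHom (R := k) J
  have hπ : Function.Surjective π := Ideal.Quotient.mk_surjective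
  have hkerK : RingHom.ker (bcHom K π) = vanIdeal (N : Set (Pt K (K ⊗[k] B))) := by
    rw [← hJ]
    exact ker_bcHom K J
  have hsurjK := bcHom_surjective K π hπ
  have hdom : IsDomain (K ⊗[k] (B ⧸ J)) := by
    have hp : (RingHom.ker (bcHom K π : K ⊗[k] B →+* K ⊗[k] (B ⧸ J))).IsPrime := by
      have h5 : (vanIdeal (N : Set (Pt K (K ⊗[k] B)))).IsPrime := hconn
      rw [← hkerK] at h5
      exact h5
    have h6 : IsDomain (K ⊗[k] B ⧸ RingHom.ker (bcHom K π : K ⊗[k] B →+* K ⊗[k] (B ⧸ J))) :=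
      Ideal.Quotient.isDomain _
    exact (RingHom.quotientKerEquivOfSurjective
      (f := (bcHom K π : K ⊗[k] B →+* K ⊗[k] (B ⧸ J))) hsurjK).symm.toMulEquiv.isDomain _
  have hmem : ∀ u : Pt K (K ⊗[k] B), (∀ c ∈ J, u (1 ⊗ₜ c) = 0) → u ∈ N := by
    intro u hu
    apply hcl
    intro a ha
    have h5 : J.map (Algebra.TensorProduct.includeRight : B →ₐ[k] K ⊗[k] B) ≤
        RingHom.ker u.ofConv := by
      rw [Ideal.map_le_iff_le_comap]
      intro c hc
      exact hu c hc
    rw [hJ] at h5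
    exact h5 ha
  have hunip : HopfRep.IsUnipotent k (B ⧸ J) := by
    apply isUnipotent_of_baseChange K
    apply Groth.Agent.Redsub.H674.UnipPts.isUnipotent_of_forall_isUnip
    intro g
    refine isUnip_of_map (φ := bcHom K π) hsurjK ?_
    refine hu _ (hmem _ fun c hc => ?_)
    change g.ofConv (bcHom K π (1 ⊗ₜ c)) = 0
    have h7 : π c = 0 := Ideal.Quotient.eq_zero_iff_mem.2 hc
    rw [bcHom_tmul, h7, tmul_zero, map_zero]
  have hft : Algebra.FiniteType k (B ⧸ J) :=
    Algebra.FiniteType.of_surjective (Ideal.Quotient.mkₐ k J) Ideal.Quotient.mk_surjective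
  have hur : URat k (B ⧸ J) := urat_of_unip (K := K) (B ⧸ J) hunip
  have hPJ : P ≤ J := by
    intro p hp
    have h8 := hP.apply_eq_zero hur (Ideal.Quotient.mkₐ k J) (fun b hb => by
      have h9 : b ∈ J := Ideal.Quotient.eq_zero_iff_mem.1 hb
      exact h3.counit_eq_zero h9) hp
    exact Ideal.Quotient.eq_zero_iff_mem.1 h8
  intro g hg
  rw [mem_vsub]
  intro p hp
  exact hPJ hp g hg

end Unip

section Torus

/-- **The tori are contained in the largest unirational subgroup.** -/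
theorem mem_of_torus [Infinite k] {P : Ideal B} (hP : Least k P)
    {G T : Over (Spec (CommRingCat.of k))} [GrpObj G] [GrpObj T] (e : G ≅ SpecOver k B)
    [IsMonHom e.hom] (i : T ⟶ G) [IsMonHom i] (hT : Red.IsTorus T) :
    gmPts K e i ≤ vsub K hP.isHopfIdeal := by
  have haff : IsAffine T.left := by
    have := Groth.Agent.Sga3B.TorusAlgClosed.isAffineHom_of_isTorus hT
    exact isAffine_of_isAffineHom T.hom
  obtain ⟨A, _, _, c, hc⟩ := exists_hopf k T
  obtain ⟨φ, hφ⟩ := K494.HomDict.exists_hom c e i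
  have hT' : Red.IsTorus (SpecOver k A) :=
    Groth.Agent.Sga3B.TorusBc.isTorus_of_iso (Grp.mkIso' c) hT
  obtain ⟨L, _, _, _, _, r, ⟨g⟩⟩ := Groth.Agent.Agf.H606.TorDenseSch.exists_gbasis k A hT'
  have hur : URat k A := K6.UniTorus.urat_of_gbasis g
  rw [gmPts_eq (K := K) e φ c i hφ]
  rintro _ ⟨x, rfl⟩
  rw [mem_vsub]
  intro p hp
  have h1 : φ p = 0 := hP.apply_eq_zero hur (φ : B →ₐ[k] A) (fun b hb => by
    have h2 : φ b = 0 := hb
    have h3 : CoalgebraStruct.counit (R := k) (φ b) = CoalgebraStruct.counit (R := k) b :=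
      CoalgHomClass.counit_comp_apply φ b
    rw [h2, map_zero] at h3
    exact h3.symm) hp
  have h4 : (Pt.map (Groth.Agent.Sga3A.BCIso.mapBialg K φ) x) (1 ⊗ₜ p) = x (1 ⊗ₜ φ p) := rfl
  rw [h4, h1, tmul_zero]
  exact map_zero x.ofConv

/-- The points of a subgroup are Galois stable. -/
theorem gal_gmPts {G T : Over (Spec (CommRingCat.of k))} [GrpObj G] [GrpObj T] [IsAffine T.left]
    (e : G ≅ SpecOver k B) [IsMonHom e.hom] (i : T ⟶ G) [IsMonHom i] (σ : K ≃ₐ[k] K)
    {g : Pt K (K ⊗[k] B)} (hg : g ∈ gmPts K e i) : gal σ g ∈ gmPts K e i := by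
  obtain ⟨A, _, _, c, hc⟩ := exists_hopf k T
  obtain ⟨φ, hφ⟩ := K494.HomDict.exists_hom c e i
  rw [gmPts_eq (K := K) e φ c i hφ] at hg ⊢
  obtain ⟨x, rfl⟩ := hg
  refine ⟨gal σ x, ?_⟩
  apply pt_ext
  intro b
  rfl

end Torus

section Main

/-- **The largest unirational subgroup over an infinite perfect field.** -/
theorem eq_bot [Infinite k] [PerfectField k] [Algebra.FiniteType k B] [Algebra.Smooth k B]
    [ConnectedSpace (PrimeSpectrum B)] {P : Ideal B} (hP : Least k P)
    (G : Over (Spec (CommRingCat.of k))) [GrpObj G] [Smooth G.hom] [QuasiCompact G.hom]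
    (e : G ≅ SpecOver k B) [IsMonHom e.hom] : P = ⊥ := by
  let K := AlgebraicClosure k
  have hdom : IsDomain (K ⊗[k] B) := Groth.Agent.Agf.H617.LangDom.isDomain_tensor B K
  obtain ⟨T, _, i, hi⟩ := Groth.Agent.S4121.result k G
  have h1 : IsMonHom i := hi.1
  have h2 : Mono i := hi.2.1
  have hT : Red.IsTorus T := hi.2.2.1
  have haff : IsAffine T.left := by
    have := Groth.Agent.Sga3B.TorusAlgClosed.isAffineHom_of_isTorus hT
    exact isAffine_of_isAffineHom T.hom
  have hmax : IsMaxTorusSub (gmPts K e i) := (isMaximalTorus_iff_pts e i hT).1 hi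
  obtain ⟨U, hUC, hUcl, hUconn, hUu, hUall, hTU⟩ :=
    Groth.Agent.Agf.H614.CentPt.exists_centralizer_split hmax
  have hTst : ∀ (σ : K ≃ₐ[k] K), ∀ g ∈ gmPts K e i, gal σ g ∈ gmPts K e i :=
    fun σ g hg => gal_gmPts e i σ hg
  have hCst : ∀ (σ : K ≃ₐ[k] K), ∀ g ∈ Subgroup.centralizer (gmPts K e i : Set (Pt K (K ⊗[k] B))),
      gal σ g ∈ Subgroup.centralizer (gmPts K e i : Set (Pt K (K ⊗[k] B))) := by
    intro σ g hg
    rw [Subgroup.mem_centralizer_iff] at hg ⊢
    intro t ht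
    have h3 := hg _ (hTst σ.symm t ht)
    have h4 := congrArg (gal σ) h3
    rw [map_mul, map_mul, gal_gal_symm] at h4
    exact h4
  have hUst : ∀ (σ : K ≃ₐ[k] K), ∀ g ∈ U, gal σ g ∈ U := fun σ g hg =>
    hUall _ (hCst σ g (hUC hg)) (isUnip_gal σ (hUu g hg))
  have hUV : U ≤ vsub K hP.isHopfIdeal := mem_of_unip hP hUcl hUconn hUu hUst
  have hTV : gmPts K e i ≤ vsub K hP.isHopfIdeal := mem_of_torus hP e i hT
  have hVn : (vsub K hP.isHopfIdeal).Normal := normal_vsub hP
  obtain ⟨n, π, hsurj, hTπ⟩ := hmax.1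
  have hTS : IsTorusSub (Pt.map π).range := ⟨n, π, hsurj, rfl⟩
  obtain ⟨h, hh0, hh⟩ := exists_conj_open π hTS.isConn_centralizer 1 ⟨1, one_mem _, by simp⟩
  rw [eq_bot_iff]
  intro p hp
  have h5 : h * (1 ⊗ₜ p) = 0 := by
    refine eq_zero_of_forall_pt (K := K) (A := K ⊗[k] B) fun y => ?_
    have hmul : y (h * (1 ⊗ₜ p)) = y h * y (1 ⊗ₜ p) := map_mul y.ofConv _ _
    rw [hmul]
    by_cases hy : y h = 0
    · rw [hy, zero_mul]
    · obtain ⟨g, c, hc, -, hyc⟩ := hh _ hy
      rw [← hTπ] at hc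
      obtain ⟨s, hs, u, hu, rfl⟩ := hTU c hc
      have h7 : y ∈ vsub K hP.isHopfIdeal := by
        rw [hyc]
        exact hVn.conj_mem _ (mul_mem (hTV hs) (hUV hu)) g
      have h8 : y (1 ⊗ₜ p) = 0 := h7 p hp
      rw [h8, mul_zero]
  have h9 : (1 : K) ⊗ₜ[k] p = 0 := (mul_eq_zero.1 h5).resolve_left hh0
  have h10 : Function.Injective (Algebra.TensorProduct.includeRight : B →ₐ[k] K ⊗[k] B) :=
    Algebra.TensorProduct.includeRight_injective (algebraMap k K).injective
  exact h10 (h9.trans (map_zero _).symm)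

end Main

end K6.UniInf
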