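import Groth.Agent.SGA3x.K6.UniRat
import Mathlib.RingTheory.HopfAlgebra.Quotient
import Mathlib.RingTheory.HopfAlgebra.Convolution
import Mathlib.RingTheory.Ideal.KrullsHeightTheorem
import Mathlib.RingTheory.FiniteType

/-!
# The largest unirational subgroup of an affine algebraic group

`B` a finitely generated commutative Hopf algebra over the field `k`.  `InF P`: the ideal `P` is the kernel of a
`k`-algebra map from `B` to a field of rational functions.

* `exists_least`: among these ideals contained in the augmentation ideal there is a smallest one `P`;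
* `Least.isHopfIdeal`: `P` is a Hopf ideal;
* `Least.invMul_eq_zero`: any two specialisations of the same rational map `ψ` to the group differ by an element of the
  subgroup defined by `P`.
-/

set_option autoImplicit false

universe u v w

open TensorProduct Coalgebra

namespace K6.UniLeast

open K6.UniRat

variable {k : Type u} [Field k] {B : Type v} [CommRing B] [HopfAlgebra k B]

/-- the ideal is the kernel of a map to a field of rational functions -/
def InF (k : Type u) [Field k] {B : Type v} [CommRing B] [HopfAlgebra k B] (P : Ideal B) : Prop :=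
  ∃ (n : ℕ) (ψ : B →ₐ[k] Fr k (Fin n)), RingHom.ker ψ = P

theorem InF.of {D : Type w} [CommRing D] [Algebra k D] (h : URat k D) (f : B →ₐ[k] D) :
    InF k (RingHom.ker f) := by
  obtain ⟨n, ψ, hψ⟩ := h
  refine ⟨n, ψ.comp f, ?_⟩
  ext b
  rw [RingHom.mem_ker, RingHom.mem_ker, AlgHom.comp_apply, map_eq_zero_iff _ hψ]

theorem InF.urat {P : Ideal B} (h : InF k P) : URat k (B ⧸ P) := by
  obtain ⟨n, ψ, rfl⟩ := h
  exact ⟨n, Ideal.kerLiftAlg ψ, Ideal.kerLiftAlg_injective ψ⟩

theorem InF.isPrime {P : Ideal B} (h : InF k P) : P.IsPrime := by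
  obtain ⟨n, ψ, rfl⟩ := h
  exact RingHom.ker_isPrime _

/-- the comultiplication modulo two ideals -/
noncomputable def comulMod (P Q : Ideal B) : B →ₐ[k] (B ⧸ P) ⊗[k] (B ⧸ Q) :=
  (Algebra.TensorProduct.map (Ideal.Quotient.mkₐ k P) (Ideal.Quotient.mkₐ k Q)).comp
    (Bialgebra.comulAlgHom k B)

variable (k) in
/-- the ideal of the product -/
noncomputable def mulI (P Q : Ideal B) : Ideal B := RingHom.ker (comulMod (k := k) P Q)

theorem InF.mulI {P Q : Ideal B} (hP : InF k P) (hQ : InF k Q) : InF k (mulI k P Q) :=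
  InF.of (hP.urat.tensor hQ.urat) _

/-- the augmentation ideal -/
noncomputable abbrev aug (k : Type u) [Field k] (B : Type v) [CommRing B] [HopfAlgebra k B] : Ideal B :=
  RingHom.ker (Bialgebra.counitAlgHom k B)

theorem mulI_le_left (P : Ideal B) {Q : Ideal B} (hQ : Q ≤ aug k B) : mulI k P Q ≤ P := by
  let ε : B ⧸ Q →ₐ[k] k := Ideal.Quotient.liftₐ Q (Bialgebra.counitAlgHom k B) fun a ha => hQ ha
  let F : (B ⧸ P) ⊗[k] (B ⧸ Q) →ₐ[k] B ⧸ P :=
    ((Algebra.TensorProduct.rid k k (B ⧸ P)) : _ →ₐ[k] _).comp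
      (Algebra.TensorProduct.map (AlgHom.id k (B ⧸ P)) ε)
  have key : ∀ x : B ⊗[k] B, F (Algebra.TensorProduct.map (Ideal.Quotient.mkₐ k P)
      (Ideal.Quotient.mkₐ k Q) x) =
      Ideal.Quotient.mkₐ k P (TensorProduct.rid k B (LinearMap.lTensor B (counit (R := k) (A := B)) x)) := by
    intro x
    induction x using TensorProduct.induction_on with
    | zero => simp only [map_zero]
    | tmul a b =>
      change (counit (R := k) (A := B) b) • (Ideal.Quotient.mk P a) = Ideal.Quotient.mk P _
      rw [LinearMap.lTensor_tmul, TensorProduct.rid_tmul]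
      rfl
    | add x y hx hy => simp only [map_add, hx, hy]
  intro b hb
  have h1 := key (comul (R := k) b)
  rw [Coalgebra.lTensor_counit_comul, TensorProduct.rid_tmul, one_smul] at h1
  have h2 : Algebra.TensorProduct.map (Ideal.Quotient.mkₐ k P) (Ideal.Quotient.mkₐ k Q)
      (comul (R := k) b) = 0 := hb
  rw [h2, map_zero] at h1
  exact Ideal.Quotient.eq_zero_iff_mem.1 h1.symm

theorem mulI_le_right {P : Ideal B} (Q : Ideal B) (hP : P ≤ aug k B) : mulI k P Q ≤ Q := by
  let ε : B ⧸ P →ₐ[k] k := Ideal.Quotient.liftₐ P (Bialgebra.counitAlgHom k B) fun a ha => hP ha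
  let F : (B ⧸ P) ⊗[k] (B ⧸ Q) →ₐ[k] B ⧸ Q :=
    ((Algebra.TensorProduct.lid k (B ⧸ Q)) : _ →ₐ[k] _).comp
      (Algebra.TensorProduct.map ε (AlgHom.id k (B ⧸ Q)))
  have key : ∀ x : B ⊗[k] B, F (Algebra.TensorProduct.map (Ideal.Quotient.mkₐ k P)
      (Ideal.Quotient.mkₐ k Q) x) =
      Ideal.Quotient.mkₐ k Q (TensorProduct.lid k B (LinearMap.rTensor B (counit (R := k) (A := B)) x)) := by
    intro x
    induction x using TensorProduct.induction_on with
    | zero => simp only [map_zero]
    | tmul a b =>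
      change (counit (R := k) (A := B) a) • (Ideal.Quotient.mk Q b) = Ideal.Quotient.mk Q _
      rw [LinearMap.rTensor_tmul, TensorProduct.lid_tmul]
      rfl
    | add x y hx hy => simp only [map_add, hx, hy]
  intro b hb
  have h1 := key (comul (R := k) b)
  rw [Coalgebra.rTensor_counit_comul, TensorProduct.lid_tmul, one_smul] at h1
  have h2 : Algebra.TensorProduct.map (Ideal.Quotient.mkₐ k P) (Ideal.Quotient.mkₐ k Q)
      (comul (R := k) b) = 0 := hb
  rw [h2, map_zero] at h1
  exact Ideal.Quotient.eq_zero_iff_mem.1 h1.symm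

/-- the smallest ideal of the family through the unit -/
structure Least (k : Type u) [Field k] {B : Type v} [CommRing B] [HopfAlgebra k B] (P : Ideal B) : Prop where
  inF : InF k P
  le_aug : P ≤ aug k B
  le : ∀ Q : Ideal B, InF k Q → Q ≤ aug k B → P ≤ Q

theorem inF_aug : InF k (aug k B) := InF.of URat.self _

/-- **Existence of the smallest ideal.** -/
theorem exists_least [Algebra.FiniteType k B] : ∃ P : Ideal B, Least k P := by
  have hN : IsNoetherianRing B := Algebra.FiniteType.isNoetherianRing k B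
  let S : Set (Ideal B) := {P | InF k P ∧ P ≤ aug k B}
  have hS : S.Nonempty := ⟨_, inF_aug, le_rfl⟩
  obtain ⟨P, ⟨hP, hP1⟩, hmin⟩ : ∃ P ∈ S, ∀ Q ∈ S, P.height ≤ Q.height :=
    ⟨Function.argminOn Ideal.height S hS, Function.argminOn_mem _ _ _,
      fun Q hQ => Function.argminOn_le _ _ hQ⟩
  have hmin' : ∀ Q, InF k Q → Q ≤ P → Q = P := by
    intro Q hQ hQP
    have h1 := hmin Q ⟨hQ, hQP.trans hP1⟩
    have : Q.IsPrime := hQ.isPrime
    exact Ideal.eq_of_le_of_height_le (I := Q) (J := P) hQP h1
  refine ⟨P, hP, hP1, fun Q hQ hQ1 => ?_⟩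
  have h1 := hmin' _ (hP.mulI hQ) (mulI_le_left P hQ1)
  rw [← h1]
  exact mulI_le_right Q hP1

lemma inF_comap_antipode {P : Ideal B} (h : InF k P) :
    InF k (P.comap (HopfAlgebra.antipodeAlgHom k B)) := by
  obtain ⟨n, ψ, rfl⟩ := h
  exact ⟨n, ψ.comp (HopfAlgebra.antipodeAlgHom k B), rfl⟩

/-- **The smallest ideal is a Hopf ideal.** -/
theorem Least.isHopfIdeal {P : Ideal B} (h : Least k P) : P.IsHopfIdeal k where
  counit_eq_zero x hx := h.le_aug hx
  map_mkQ_comul_eq_zero x hx := by
    have h1 : P ≤ mulI k P P := h.le _ (h.inF.mulI h.inF) ((mulI_le_left P h.le_aug).trans h.le_aug)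
    exact h1 hx
  antipode_mem x hx := by
    have h1 : P ≤ P.comap (HopfAlgebra.antipodeAlgHom k B) := by
      refine h.le _ (inF_comap_antipode h.inF) fun y hy => ?_
      have h2 : counit (R := k) (HopfAlgebra.antipode k y) = 0 := h.le_aug hy
      rw [HopfAlgebra.counit_antipode] at h2
      exact h2
    exact h1 hx

section invMul

variable {D : Type w} [CommRing D] [Algebra k D]

/-- `(x, y) ↦ ψ(x)⁻¹ ψ(y)` -/
noncomputable def invMul (ψ : B →ₐ[k] D) : B →ₐ[k] D ⊗[k] D :=
  (Algebra.TensorProduct.map (ψ.comp (HopfAlgebra.antipodeAlgHom k B)) ψ).comp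
    (Bialgebra.comulAlgHom k B)

lemma lmul_invMul (ψ : B →ₐ[k] D) (b : B) :
    Algebra.TensorProduct.lmul' k (S := D) (invMul ψ b) = algebraMap k D (counit (R := k) b) := by
  have key : ∀ x : B ⊗[k] B, Algebra.TensorProduct.lmul' k (S := D)
      (Algebra.TensorProduct.map (ψ.comp (HopfAlgebra.antipodeAlgHom k B)) ψ x) =
      ψ (LinearMap.mul' k B (LinearMap.rTensor B (HopfAlgebra.antipode k) x)) := by
    intro x
    induction x using TensorProduct.induction_on with
    | zero => simp only [map_zero]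
    | tmul a b =>
      rw [Algebra.TensorProduct.map_tmul, Algebra.TensorProduct.lmul'_apply_tmul,
        LinearMap.rTensor_tmul, LinearMap.mul'_apply, map_mul]
      rfl
    | add x y hx hy => simp only [map_add, hx, hy]
  have h1 := key (comul (R := k) b)
  rw [HopfAlgebra.mul_antipode_rTensor_comul_apply, AlgHom.commutes] at h1
  exact h1

/-- **The two specialisations of a rational map lie in the same coset.** -/
theorem Least.invMul_eq_zero {P : Ideal B} (h : Least k P) (hD : URat k D) (ψ : B →ₐ[k] D) {p : B}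
    (hp : p ∈ P) : invMul ψ p = 0 := by
  have hdom : IsDomain D := hD.isDomain
  have h1 : P ≤ RingHom.ker (invMul ψ) := by
    refine h.le _ (InF.of (hD.tensor hD) _) fun b hb => ?_
    have h2 := lmul_invMul ψ b
    rw [RingHom.mem_ker] at hb
    rw [hb, map_zero] at h2
    exact (map_eq_zero_iff _ (algebraMap k D).injective).1 h2.symm
  exact h1 hp

/-- A rational map specialising to the unit factors through the subgroup. -/
theorem Least.apply_eq_zero {P : Ideal B} (h : Least k P) (hD : URat k D) (ψ : B →ₐ[k] D)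
    (hψ : RingHom.ker ψ ≤ aug k B) {p : B} (hp : p ∈ P) : ψ p = 0 :=
  h.le _ (InF.of hD ψ) hψ hp

end invMul

end K6.UniLeast
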