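import Mathlib.RingTheory.MvPolynomial.Localization
import Mathlib.RingTheory.TensorProduct.MvPolynomial
import Mathlib.RingTheory.Localization.FractionRing
import Mathlib.RingTheory.Flat.Basic
import Mathlib.Algebra.MvPolynomial.Equiv
import Mathlib.LinearAlgebra.FreeModule.Basic
import Mathlib.LinearAlgebra.Basis.VectorSpace

/-!
# Algebras embedded in purely transcendental extensions

`URat k D`: the `k`-algebra `D` embeds in a field of rational functions `k(t₁, …, tₙ)`.

* `URat.tensor`: stability under tensor products;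
* `URat.of_mvPolynomial`, `URat.of_localization`.
-/

set_option autoImplicit false

universe u v w

open TensorProduct

namespace K6.UniRat

variable (k : Type u) [Field k]

/-- the field of rational functions -/
abbrev Fr (σ : Type v) : Type (max u v) := FractionRing (MvPolynomial σ k)

/-- the algebra embeds in a field of rational functions in finitely many variables -/
def URat (D : Type w) [CommRing D] [Algebra k D] : Prop :=
  ∃ (n : ℕ) (ψ : D →ₐ[k] Fr k (Fin n)), Function.Injective ψ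

variable {k}

theorem URat.of_injective {D D' : Type*} [CommRing D] [Algebra k D] [CommRing D'] [Algebra k D']
    (h : URat k D) (f : D' →ₐ[k] D) (hf : Function.Injective f) : URat k D' := by
  obtain ⟨n, ψ, hψ⟩ := h
  exact ⟨n, ψ.comp f, hψ.comp hf⟩

/-- the map of fields of rational functions attached to an embedding of polynomial rings -/
noncomputable def frMap {σ : Type v} {τ : Type w} (f : MvPolynomial σ k →ₐ[k] MvPolynomial τ k)
    (hf : Function.Injective f) : Fr k σ →ₐ[k] Fr k τ :=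
  IsFractionRing.liftAlgHom (g := (IsScalarTower.toAlgHom k (MvPolynomial τ k) (Fr k τ)).comp f)
    ((IsFractionRing.injective (MvPolynomial τ k) (Fr k τ)).comp hf)

lemma frMap_algebraMap {σ : Type v} {τ : Type w} (f : MvPolynomial σ k →ₐ[k] MvPolynomial τ k)
    (hf : Function.Injective f) (p : MvPolynomial σ k) :
    frMap f hf (algebraMap _ _ p) = algebraMap _ _ (f p) := by
  exact IsFractionRing.lift_algebraMap
    (g := ((IsScalarTower.toAlgHom k (MvPolynomial τ k) (Fr k τ)).comp f).toRingHom)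
    ((IsFractionRing.injective (MvPolynomial τ k) (Fr k τ)).comp hf) p

lemma frMap_injective {σ : Type v} {τ : Type w} (f : MvPolynomial σ k →ₐ[k] MvPolynomial τ k)
    (hf : Function.Injective f) : Function.Injective (frMap f hf) :=
  RingHom.injective (frMap f hf).toRingHom

theorem URat.of_fr {σ : Type v} [Finite σ] {D : Type w} [CommRing D] [Algebra k D]
    (ψ : D →ₐ[k] Fr k σ) (hψ : Function.Injective ψ) : URat k D := by
  obtain ⟨n, ⟨e⟩⟩ := Finite.exists_equiv_fin σ
  have he : Function.Injective (MvPolynomial.rename (R := k) e) := MvPolynomial.rename_injective _ e.injective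
  exact ⟨n, (frMap (MvPolynomial.rename e) he).comp ψ, (frMap_injective _ he).comp hψ⟩

theorem URat.of_mvPolynomial (σ : Type v) [Finite σ] : URat k (MvPolynomial σ k) :=
  URat.of_fr (IsScalarTower.toAlgHom k _ (Fr k σ)) (IsFractionRing.injective _ _)

theorem URat.self : URat k k :=
  (URat.of_mvPolynomial (k := k) (Fin 0)).of_injective (Algebra.ofId _ _) (RingHom.injective _)

theorem URat.of_localization {σ : Type v} [Finite σ] (δ : MvPolynomial σ k) (hδ : δ ≠ 0)
    {R : Type w} [CommRing R] [Algebra k R] [Algebra (MvPolynomial σ k) R]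
    [IsScalarTower k (MvPolynomial σ k) R] [IsLocalization.Away δ R] : URat k R := by
  have h1 : IsUnit ((IsScalarTower.toAlgHom k (MvPolynomial σ k) (Fr k σ)) δ) := by
    rw [isUnit_iff_ne_zero]
    exact (map_ne_zero_iff _ (IsFractionRing.injective (MvPolynomial σ k) (Fr k σ))).2 hδ
  have h2 : ∀ y : Submonoid.powers δ, IsUnit ((IsScalarTower.toAlgHom k (MvPolynomial σ k) (Fr k σ)) y) := by
    rintro ⟨_, n, rfl⟩
    rw [map_pow]
    exact h1.pow n
  let f : R →ₐ[k] Fr k σ := IsLocalization.liftAlgHom (M := Submonoid.powers δ) (S := R)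
    (f := IsScalarTower.toAlgHom k (MvPolynomial σ k) (Fr k σ)) h2
  refine URat.of_fr f ?_
  rw [injective_iff_map_eq_zero]
  intro a ha
  obtain ⟨p, ⟨s, hs⟩, rfl⟩ := IsLocalization.exists_mk'_eq (Submonoid.powers δ) a
  have h3 : f (IsLocalization.mk' R p ⟨s, hs⟩) * f (algebraMap _ R s) = f (algebraMap _ R p) := by
    rw [← map_mul, IsLocalization.mk'_spec]
  rw [ha, zero_mul] at h3
  have h4 : f (algebraMap _ R p) = algebraMap _ (Fr k σ) p := IsLocalization.lift_eq _ _
  rw [h4] at h3
  have h5 : p = 0 := (map_eq_zero_iff _ (IsFractionRing.injective (MvPolynomial σ k) (Fr k σ))).1 h3.symm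
  rw [h5, IsLocalization.mk'_zero]

theorem URat.isDomain {D : Type w} [CommRing D] [Algebra k D] (h : URat k D) : IsDomain D := by
  obtain ⟨n, ψ, hψ⟩ := h
  exact hψ.isDomain ψ.toRingHom

section tensor

variable (σ : Type v) (τ : Type w)

/-- first factor -/
noncomputable def inl : Fr k σ →ₐ[k] Fr k (σ ⊕ τ) :=
  frMap (MvPolynomial.rename Sum.inl) (MvPolynomial.rename_injective _ Sum.inl_injective)

/-- second factor -/
noncomputable def inr : Fr k τ →ₐ[k] Fr k (σ ⊕ τ) :=
  frMap (MvPolynomial.rename Sum.inr) (MvPolynomial.rename_injective _ Sum.inr_injective)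

/-- the product map -/
noncomputable def prodMap : Fr k σ ⊗[k] Fr k τ →ₐ[k] Fr k (σ ⊕ τ) :=
  Algebra.TensorProduct.lift (inl σ τ) (inr σ τ) (fun _ _ => Commute.all _ _)

/-- the product map on polynomials -/
noncomputable def prodPoly : MvPolynomial σ k ⊗[k] MvPolynomial τ k →ₐ[k] MvPolynomial (σ ⊕ τ) k :=
  Algebra.TensorProduct.lift (MvPolynomial.rename Sum.inl) (MvPolynomial.rename Sum.inr)
    (fun _ _ => Commute.all _ _)

/-- inverse of `prodPoly` -/
noncomputable def prodPolyInv : MvPolynomial (σ ⊕ τ) k →ₐ[k] MvPolynomial σ k ⊗[k] MvPolynomial τ k :=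
  MvPolynomial.aeval (Sum.elim (fun i => MvPolynomial.X i ⊗ₜ 1) (fun j => 1 ⊗ₜ MvPolynomial.X j))

lemma prodPoly_injective : Function.Injective (prodPoly (k := k) σ τ) := by
  have h : (prodPolyInv σ τ).comp (prodPoly (k := k) σ τ) = AlgHom.id k _ := by
    apply Algebra.TensorProduct.ext
    · apply MvPolynomial.algHom_ext
      intro i
      simp [prodPoly, prodPolyInv]
    · apply MvPolynomial.algHom_ext
      intro i
      simp [prodPoly, prodPolyInv]
  intro x y hxy
  have h1 := congrArg (prodPolyInv σ τ) hxy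
  have h2 : ∀ z, prodPolyInv σ τ (prodPoly σ τ z) = z := fun z => DFunLike.congr_fun h z
  rwa [h2, h2] at h1

/-- the inclusion of polynomials -/
noncomputable def polyIncl : MvPolynomial σ k ⊗[k] MvPolynomial τ k →ₐ[k] Fr k σ ⊗[k] Fr k τ :=
  Algebra.TensorProduct.map (IsScalarTower.toAlgHom k _ _) (IsScalarTower.toAlgHom k _ _)

lemma prodMap_polyIncl (z : MvPolynomial σ k ⊗[k] MvPolynomial τ k) :
    prodMap σ τ (polyIncl σ τ z) = algebraMap _ _ (prodPoly σ τ z) := by
  induction z using TensorProduct.induction_on with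
  | zero => simp
  | tmul a b =>
    change prodMap σ τ ((algebraMap _ _ a) ⊗ₜ (algebraMap _ _ b)) = _
    rw [prodMap, Algebra.TensorProduct.lift_tmul, inl, inr, frMap_algebraMap, frMap_algebraMap,
      ← map_mul, prodPoly, Algebra.TensorProduct.lift_tmul]
  | add x y hx hy => rw [map_add, map_add, hx, hy, map_add, map_add]

lemma exists_denom (z : Fr k σ ⊗[k] Fr k τ) : ∃ (s : MvPolynomial σ k) (t : MvPolynomial τ k)
    (y : MvPolynomial σ k ⊗[k] MvPolynomial τ k), s ≠ 0 ∧ t ≠ 0 ∧
      ((algebraMap _ (Fr k σ) s) ⊗ₜ[k] (algebraMap _ (Fr k τ) t)) * z = polyIncl σ τ y := by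
  induction z using TensorProduct.induction_on with
  | zero => exact ⟨1, 1, 0, one_ne_zero, one_ne_zero, by rw [mul_zero, map_zero]⟩
  | tmul a b =>
    obtain ⟨p, s, hs, rfl⟩ := IsFractionRing.div_surjective (A := MvPolynomial σ k) a
    obtain ⟨q, t, ht, rfl⟩ := IsFractionRing.div_surjective (A := MvPolynomial τ k) b
    have hs0 : s ≠ 0 := nonZeroDivisors.ne_zero hs
    have ht0 : t ≠ 0 := nonZeroDivisors.ne_zero ht
    refine ⟨s, t, p ⊗ₜ q, hs0, ht0, ?_⟩
    have h1 : algebraMap _ (Fr k σ) s ≠ 0 :=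
      (map_ne_zero_iff _ (IsFractionRing.injective (MvPolynomial σ k) (Fr k σ))).2 hs0
    have h2 : algebraMap _ (Fr k τ) t ≠ 0 :=
      (map_ne_zero_iff _ (IsFractionRing.injective (MvPolynomial τ k) (Fr k τ))).2 ht0
    rw [Algebra.TensorProduct.tmul_mul_tmul, mul_div_cancel₀ _ h1, mul_div_cancel₀ _ h2]
    rfl
  | add x y hx hy =>
    obtain ⟨s, t, u, hs, ht, h1⟩ := hx
    obtain ⟨s', t', u', hs', ht', h2⟩ := hy
    refine ⟨s * s', t * t', (s' ⊗ₜ t') * u + (s ⊗ₜ t) * u', mul_ne_zero hs hs', mul_ne_zero ht ht', ?_⟩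
    have h3 : ∀ (a : MvPolynomial σ k) (b : MvPolynomial τ k), polyIncl σ τ (a ⊗ₜ b) =
      (algebraMap _ (Fr k σ) a) ⊗ₜ[k] (algebraMap _ (Fr k τ) b) := fun _ _ => rfl
    rw [map_add, map_mul (polyIncl σ τ), map_mul (polyIncl σ τ), ← h1, ← h2, h3, h3, map_mul, map_mul,
      ← Algebra.TensorProduct.tmul_mul_tmul]
    ring

theorem prodMap_injective : Function.Injective (prodMap (k := k) σ τ) := by
  rw [injective_iff_map_eq_zero]
  intro z hz
  obtain ⟨s, t, y, hs, ht, h⟩ := exists_denom σ τ z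
  have h1 : prodMap σ τ (polyIncl σ τ y) = 0 := by rw [← h, map_mul, hz, mul_zero]
  rw [prodMap_polyIncl, map_eq_zero_iff _ (IsFractionRing.injective _ _),
    map_eq_zero_iff _ (prodPoly_injective σ τ)] at h1
  rw [h1, map_zero] at h
  have h1 : algebraMap _ (Fr k σ) s ≠ 0 :=
    (map_ne_zero_iff _ (IsFractionRing.injective (MvPolynomial σ k) (Fr k σ))).2 hs
  have h2 : algebraMap _ (Fr k τ) t ≠ 0 :=
    (map_ne_zero_iff _ (IsFractionRing.injective (MvPolynomial τ k) (Fr k τ))).2 ht
  have h3 : ((algebraMap _ (Fr k σ) s)⁻¹ ⊗ₜ[k] (algebraMap _ (Fr k τ) t)⁻¹) *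
      ((algebraMap _ (Fr k σ) s) ⊗ₜ[k] (algebraMap _ (Fr k τ) t)) = 1 := by
    rw [Algebra.TensorProduct.tmul_mul_tmul, inv_mul_cancel₀ h1, inv_mul_cancel₀ h2]
    rfl
  calc z = (((algebraMap _ (Fr k σ) s)⁻¹ ⊗ₜ[k] (algebraMap _ (Fr k τ) t)⁻¹) *
      ((algebraMap _ (Fr k σ) s) ⊗ₜ[k] (algebraMap _ (Fr k τ) t))) * z := by rw [h3, one_mul]
    _ = 0 := by rw [mul_assoc, h, mul_zero]

end tensor

/-- **Stability under tensor products.** -/
theorem URat.tensor {D : Type v} {D' : Type w} [CommRing D] [Algebra k D] [CommRing D'] [Algebra k D']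
    (h : URat k D) (h' : URat k D') : URat k (D ⊗[k] D') := by
  obtain ⟨n, ψ, hψ⟩ := h
  obtain ⟨m, χ, hχ⟩ := h'
  refine URat.of_fr ((prodMap (Fin n) (Fin m)).comp (Algebra.TensorProduct.map ψ χ)) ?_
  refine (prodMap_injective (Fin n) (Fin m)).comp ?_
  exact TensorProduct.map_injective_of_flat_flat ψ.toLinearMap χ.toLinearMap hψ hχ

end K6.UniRat
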