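import Groth.Agent.SGA3x.K6.UniRat
import Groth.Agent.Agf.H606.TorDenseSch
import Groth.Agent.Agf.H603.TorNorm
import Groth.Agent.Agf.H612.GalSub

/-!
# Tori over an infinite field are unirational

`A` a Hopf algebra over the infinite field `k` with a basis of group-like elements indexed by `ℤ ^ r` over a finite
Galois extension `L`.  The norm of the generic point gives an injective map from `A` to a localisation of a polynomial
ring.
-/

set_option autoImplicit false

universe u

open TensorProduct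

namespace K6.UniTorus

open Groth.Agent.Sga3A.MTBasis Groth.Agent.Agf.H606.TorDense Groth.Agent.Agf.H612
open K6.UniRat

variable {k L : Type u} [Field k] [Field L] [Algebra k L]

section Fixed

variable (R : Type u) [CommRing R] [Algebra k R]

/-- the Galois action on `L ⊗ R` -/
noncomputable def sD (σ : L ≃ₐ[k] L) : L ⊗[k] R →ₐ[k] L ⊗[k] R :=
  Algebra.TensorProduct.map (σ : L →ₐ[k] L) (AlgHom.id k R)

lemma sD_tmul (σ : L ≃ₐ[k] L) (c : L) (r : R) : sD R σ (c ⊗ₜ r) = σ c ⊗ₜ r := rfl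

lemma sD_eq (σ : L ≃ₐ[k] L) (z : L ⊗[k] R) : sD R σ z = GalSub.act R σ z := by
  induction z using TensorProduct.induction_on with
  | zero => simp only [map_zero]
  | tmul x y => rfl
  | add x y hx hy => rw [map_add, map_add, hx, hy]

lemma sD_sD (σ τ : L ≃ₐ[k] L) (z : L ⊗[k] R) : sD R σ (sD R τ z) = sD R (σ * τ) z := by
  induction z using TensorProduct.induction_on with
  | zero => simp only [map_zero]
  | tmul x y => rfl
  | add x y hx hy => rw [map_add, map_add, map_add, hx, hy]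

lemma sD_one (z : L ⊗[k] R) : sD R (1 : L ≃ₐ[k] L) z = z := by
  induction z using TensorProduct.induction_on with
  | zero => simp only [map_zero]
  | tmul x y => rfl
  | add x y hx hy => rw [map_add, hx, hy]

theorem exists_of_fixed [FiniteDimensional k L] [IsGalois k L] (z : L ⊗[k] R)
    (hz : ∀ σ : L ≃ₐ[k] L, sD R σ z = z) : ∃ r : R, z = 1 ⊗ₜ r := by
  classical
  let b := Module.Free.chooseBasis k R
  let Bb := b.baseChange L
  have hcoef : ∀ j, ∃ a : k, algebraMap k L a = Bb.repr z j := by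
    intro j
    have h : Bb.repr z j ∈ (⊥ : IntermediateField k L) := by
      rw [IsGalois.mem_bot_iff_fixed]
      intro σ
      rw [← GalSub.repr_act, ← sD_eq, hz]
    exact IntermediateField.mem_bot.1 h
  choose a ha using hcoef
  have hafin : (Function.support a).Finite := by
    apply (Bb.repr z).support.finite_toSet.subset
    intro j hj
    rw [Finset.mem_coe, Finsupp.mem_support_iff, ← ha]
    intro h
    exact hj ((map_eq_zero_iff _ (algebraMap k L).injective).1 h)
  let a' : Module.Free.ChooseBasisIndex k R →₀ k := Finsupp.ofSupportFinite a hafin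
  refine ⟨b.repr.symm a', ?_⟩
  apply Bb.repr.injective
  ext j
  rw [Module.Basis.baseChange_repr_tmul, LinearEquiv.apply_symm_apply, ← ha, Algebra.smul_def,
    mul_one]
  rfl

end Fixed

section Norm

variable {A M : Type u} [CommRing A] [Bialgebra k A] [CommGroup M]
  (g : GBasis L (L ⊗[k] A) M) {R : Type u} [CommRing R] [Algebra k R]

/-- the point with given values on the characters -/
noncomputable def pt {D : Type u} [CommRing D] [Algebra L D] (χ : M →* Dˣ) : L ⊗[k] A →ₐ[L] D :=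
  (MonoidAlgebra.lift L D M ((Units.coeHom D).comp χ)).comp
    (g.bialgEquiv.symm : L ⊗[k] A ≃ₐ[L] MonoidAlgebra L M)

lemma pt_b {D : Type u} [CommRing D] [Algebra L D] (χ : M →* Dˣ) (m : M) :
    pt g χ (g.b m) = (χ m : Dˣ) := by
  have h : g.bialgEquiv.symm (g.b m) = MonoidAlgebra.single m 1 := by
    apply g.bialgEquiv.injective
    have h1 : g.bialgEquiv (MonoidAlgebra.single m 1) = g.b m := by
      rw [GBasis.bialgEquiv_single, one_smul]
    exact (g.bialgEquiv.apply_symm_apply (g.b m)).trans h1.symm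
  change MonoidAlgebra.lift L D M ((Units.coeHom D).comp χ) (g.bialgEquiv.symm (g.b m)) = _
  rw [h, MonoidAlgebra.lift_single, one_smul]
  rfl

lemma pt_apply {D : Type u} [CommRing D] [Algebra L D] (χ : M →* Dˣ) (x : L ⊗[k] A) :
    pt g χ x = (g.b.repr x).sum fun m a => algebraMap L D a * (χ m : D) := by
  conv_lhs => rw [← g.b.linearCombination_repr x, Finsupp.linearCombination_apply, Finsupp.sum, map_sum]
  refine Finset.sum_congr rfl fun m _ => ?_
  rw [map_smul, pt_b, Algebra.smul_def]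

variable [Fintype (L ≃ₐ[k] L)]

/-- the norm of a character -/
noncomputable def nrm (χ : M →* (L ⊗[k] R)ˣ) : M →* (L ⊗[k] R)ˣ where
  toFun m := ∏ σ : L ≃ₐ[k] L, Units.map (sD R σ : L ⊗[k] R →* L ⊗[k] R) (χ (act g σ⁻¹ m))
  map_one' := by simp
  map_mul' m n := by
    simp only [map_mul]
    rw [Finset.prod_mul_distrib]

lemma nrm_apply (χ : M →* (L ⊗[k] R)ˣ) (m : M) :
    nrm g χ m = ∏ σ : L ≃ₐ[k] L, Units.map (sD R σ : L ⊗[k] R →* L ⊗[k] R) (χ (act g σ⁻¹ m)) := rfl

lemma map_nrm (τ : L ≃ₐ[k] L) (χ : M →* (L ⊗[k] R)ˣ) (m : M) :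
    Units.map (sD R τ : L ⊗[k] R →* L ⊗[k] R) (nrm g χ m) = nrm g χ (act g τ m) := by
  rw [nrm_apply, nrm_apply, map_prod]
  refine Fintype.prod_equiv (Equiv.mulLeft τ) _ _ fun σ => ?_
  rw [act_act]
  have h : (Equiv.mulLeft τ) σ = τ * σ := rfl
  rw [h, mul_inv_rev, inv_mul_cancel_right]
  ext
  exact sD_sD R τ σ _

lemma pt_nrm_bc (χ : M →* (L ⊗[k] R)ˣ) (τ : L ≃ₐ[k] L) (x : L ⊗[k] A) :
    pt g (nrm g χ) (bc A (τ : L →ₐ[k] L) x) = sD R τ (pt g (nrm g χ) x) := by
  conv_rhs => rw [← g.b.linearCombination_repr x, Finsupp.linearCombination_apply, Finsupp.sum,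
    map_sum, map_sum]
  conv_lhs => rw [← g.b.linearCombination_repr x, Finsupp.linearCombination_apply, Finsupp.sum,
    map_sum, map_sum]
  refine Finset.sum_congr rfl fun m _ => ?_
  rw [bc_smul, map_smul, map_smul, bc_b, pt_b, pt_b, ← map_nrm, Algebra.smul_def, Algebra.smul_def,
    map_mul]
  rfl

/-- The norm of a point is defined over `k`. -/
theorem exists_desc [FiniteDimensional k L] [IsGalois k L] (χ : M →* (L ⊗[k] R)ˣ) :
    ∃ ψ : A →ₐ[k] R, ∀ a, (1 : L) ⊗ₜ[k] ψ a = pt g (nrm g χ) (1 ⊗ₜ a) := by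
  let ι : R →ₐ[k] L ⊗[k] R := Algebra.TensorProduct.includeRight
  have hι : Function.Injective ι :=
    Algebra.TensorProduct.includeRight_injective (algebraMap k L).injective
  let φ : A →ₐ[k] L ⊗[k] R :=
    ((pt g (nrm g χ)).restrictScalars k).comp Algebra.TensorProduct.includeRight
  have hφ : ∀ a, φ a ∈ ι.range := by
    intro a
    obtain ⟨r, hr⟩ := exists_of_fixed R (φ a) (fun τ => by
      have h8 := pt_nrm_bc g χ τ ((1 : L) ⊗ₜ[k] a)
      rw [bc_tmul] at h8
      have h9 : (τ : L →ₐ[k] L) 1 = 1 := map_one _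
      rw [h9] at h8
      exact h8.symm)
    exact ⟨r, hr.symm⟩
  let e : R ≃ₐ[k] ι.range := AlgEquiv.ofInjective ι hι
  refine ⟨(e.symm : ι.range →ₐ[k] R).comp (φ.codRestrict ι.range hφ), fun a => ?_⟩
  have h1 : (e (e.symm (φ.codRestrict ι.range hφ a)) : L ⊗[k] R) = φ a := by
    rw [AlgEquiv.apply_symm_apply]
    rfl
  exact h1

/-- Evaluation of the norm. -/
theorem eval_desc (χ : M →* (L ⊗[k] R)ˣ) (ρ : R →ₐ[k] L) (θ : M →* Lˣ)
    (h1 : ∀ m, Algebra.TensorProduct.lift (AlgHom.id k L) ρ (fun _ _ => Commute.all _ _)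
      (χ m : L ⊗[k] R) = (θ m : L))
    (h2 : ∀ σ : L ≃ₐ[k] L, σ ≠ 1 → ∀ m, Algebra.TensorProduct.lift (AlgHom.id k L) ρ
      (fun _ _ => Commute.all _ _) (sD R σ (χ m : L ⊗[k] R)) = 1)
    (ψ : A →ₐ[k] R) (hψ : ∀ a, (1 : L) ⊗ₜ[k] ψ a = pt g (nrm g χ) (1 ⊗ₜ a)) (a : A) :
    ρ (ψ a) = pt g θ (1 ⊗ₜ a) := by
  classical
  let ev : L ⊗[k] R →ₐ[k] L := Algebra.TensorProduct.lift (AlgHom.id k L) ρ (fun _ _ => Commute.all _ _)
  have h3 : ev ((1 : L) ⊗ₜ[k] ψ a) = ρ (ψ a) := by
    change Algebra.TensorProduct.lift _ _ _ _ = _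
    rw [Algebra.TensorProduct.lift_tmul, map_one, one_mul]
  rw [← h3, hψ, pt_apply, pt_apply, Finsupp.sum, Finsupp.sum, map_sum]
  refine Finset.sum_congr rfl fun m _ => ?_
  rw [map_mul]
  congr 1
  · change Algebra.TensorProduct.lift _ _ _ (_ ⊗ₜ _) = _
    rw [Algebra.TensorProduct.lift_tmul, map_one, mul_one]
    rfl
  · rw [nrm_apply, Units.coe_prod, map_prod, Finset.prod_eq_single 1]
    · change ev (sD R 1 (χ (act g 1⁻¹ m) : L ⊗[k] R)) = _
      rw [sD_one, inv_one, act_one]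
      exact h1 m
    · intro σ _ hσ
      exact h2 σ hσ _
    · intro h
      exact absurd (Finset.mem_univ _) h

end Norm

end K6.UniTorus
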